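import Mathlib

/-! The group `q^{1+2} : SL₂(q)` in coordinates. -/

set_option autoImplicit false

namespace H62.Hay

open Matrix Subgroup
open scoped MatrixGroups

/-- Elements `(z, (u, w), [a b; c d])` of the Heisenberg group extended by `SL₂`. -/
@[ext] structure Cm (F : Type*) [Field F] where
  z : F
  u : F
  w : F
  a : F
  b : F
  c : F
  d : F
  det : a * d - b * c = 1

namespace Cm

variable {F : Type*} [Field F]

instance instMulCm : Mul (Cm F) := ⟨fun g h =>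
  ⟨g.z + h.z + (g.u * (g.c * h.u + g.d * h.w) - g.w * (g.a * h.u + g.b * h.w)),
    g.u + (g.a * h.u + g.b * h.w), g.w + (g.c * h.u + g.d * h.w),
    g.a * h.a + g.b * h.c, g.a * h.b + g.b * h.d, g.c * h.a + g.d * h.c, g.c * h.b + g.d * h.d,
    by linear_combination (h.a * h.d - h.b * h.c) * g.det + h.det⟩⟩

instance instOneCm : One (Cm F) := ⟨⟨0, 0, 0, 1, 0, 0, 1, by ring⟩⟩

instance instInvCm : Inv (Cm F) := ⟨fun g =>
  ⟨-g.z, -(g.d * g.u - g.b * g.w), -(g.a * g.w - g.c * g.u), g.d, -g.b, -g.c, g.a,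
    by linear_combination g.det⟩⟩

@[simp] theorem mul_z (g h : Cm F) : (g * h).z =
    g.z + h.z + (g.u * (g.c * h.u + g.d * h.w) - g.w * (g.a * h.u + g.b * h.w)) := rfl
@[simp] theorem mul_u (g h : Cm F) : (g * h).u = g.u + (g.a * h.u + g.b * h.w) := rfl
@[simp] theorem mul_w (g h : Cm F) : (g * h).w = g.w + (g.c * h.u + g.d * h.w) := rfl
@[simp] theorem mul_a (g h : Cm F) : (g * h).a = g.a * h.a + g.b * h.c := rfl
@[simp] theorem mul_b (g h : Cm F) : (g * h).b = g.a * h.b + g.b * h.d := rfl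
@[simp] theorem mul_c (g h : Cm F) : (g * h).c = g.c * h.a + g.d * h.c := rfl
@[simp] theorem mul_d (g h : Cm F) : (g * h).d = g.c * h.b + g.d * h.d := rfl
@[simp] theorem one_z : (1 : Cm F).z = 0 := rfl
@[simp] theorem one_u : (1 : Cm F).u = 0 := rfl
@[simp] theorem one_w : (1 : Cm F).w = 0 := rfl
@[simp] theorem one_a : (1 : Cm F).a = 1 := rfl
@[simp] theorem one_b : (1 : Cm F).b = 0 := rfl
@[simp] theorem one_c : (1 : Cm F).c = 0 := rfl
@[simp] theorem one_d : (1 : Cm F).d = 1 := rfl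
@[simp] theorem inv_z (g : Cm F) : g⁻¹.z = -g.z := rfl
@[simp] theorem inv_u (g : Cm F) : g⁻¹.u = -(g.d * g.u - g.b * g.w) := rfl
@[simp] theorem inv_w (g : Cm F) : g⁻¹.w = -(g.a * g.w - g.c * g.u) := rfl
@[simp] theorem inv_a (g : Cm F) : g⁻¹.a = g.d := rfl
@[simp] theorem inv_b (g : Cm F) : g⁻¹.b = -g.b := rfl
@[simp] theorem inv_c (g : Cm F) : g⁻¹.c = -g.c := rfl
@[simp] theorem inv_d (g : Cm F) : g⁻¹.d = g.a := rfl

instance instGroupCm : Group (Cm F) := Group.ofLeftAxioms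
  (fun g h k => by
    ext <;> simp only [mul_z, mul_u, mul_w, mul_a, mul_b, mul_c, mul_d]
    · linear_combination ((h.u * (h.c * k.u + h.d * k.w) - h.w * (h.a * k.u + h.b * k.w))) * g.det
    all_goals ring)
  (fun g => by ext <;> simp)
  (fun g => by
    ext <;> simp only [mul_z, mul_u, mul_w, mul_a, mul_b, mul_c, mul_d, inv_z, inv_u, inv_w,
      inv_a, inv_b, inv_c, inv_d, one_z, one_u, one_w, one_a, one_b, one_c, one_d]
    all_goals first | ring1 | linear_combination g.det)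

/-- Central elements. -/
def cz (a : F) : Cm F := ⟨a, 0, 0, 1, 0, 0, 1, by ring⟩
/-- Elements of the large abelian subgroup. -/
def cm (a b c : F) : Cm F := ⟨a, b, 0, 1, c, 0, 1, by ring⟩
/-- A complement to the large abelian subgroup in the Sylow subgroup. -/
def cy (u : F) : Cm F := ⟨0, 0, -u, 1, 0, 0, 1, by ring⟩
/-- The torus. -/
def ch (l : Fˣ) : Cm F := ⟨0, 0, 0, l, 0, 0, (l⁻¹ : Fˣ), by simp⟩
/-- The central involution of `SL₂`. -/
def ct : Cm F := ⟨0, 0, 0, -1, 0, 0, -1, by ring⟩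
/-- Elements of the Heisenberg group. -/
def cq (z u w : F) : Cm F := ⟨z, u, w, 1, 0, 0, 1, by ring⟩

/-- `SL₂` as a subgroup. -/
def sl : SL(2, F) →* Cm F where
  toFun g := ⟨0, 0, 0, g 0 0, g 0 1, g 1 0, g 1 1, by rw [← det_fin_two]; exact g.det_coe⟩
  map_one' := by ext <;> simp
  map_mul' g h := by ext <;> simp [Matrix.mul_apply, Fin.sum_univ_two]

/-- The projection to `SL₂`. -/
def pr : Cm F →* SL(2, F) where
  toFun g := ⟨!![g.a, g.b; g.c, g.d], by rw [det_fin_two_of]; exact g.det⟩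
  map_one' := by ext i j; fin_cases i <;> fin_cases j <;> simp
  map_mul' g h := Subtype.ext (by
    show _ = !![g.a, g.b; g.c, g.d] * !![h.a, h.b; h.c, h.d]
    rw [mul_fin_two]; rfl)

theorem pr_coe (g : Cm F) : (pr g).1 = !![g.a, g.b; g.c, g.d] := rfl
@[simp] theorem pr_00 (g : Cm F) : (pr g).1 0 0 = g.a := rfl
@[simp] theorem pr_01 (g : Cm F) : (pr g).1 0 1 = g.b := rfl
@[simp] theorem pr_10 (g : Cm F) : (pr g).1 1 0 = g.c := rfl
@[simp] theorem pr_11 (g : Cm F) : (pr g).1 1 1 = g.d := rfl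
@[simp] theorem sl_z (g : SL(2, F)) : (sl g).z = 0 := rfl
@[simp] theorem sl_u (g : SL(2, F)) : (sl g).u = 0 := rfl
@[simp] theorem sl_w (g : SL(2, F)) : (sl g).w = 0 := rfl
@[simp] theorem sl_a (g : SL(2, F)) : (sl g).a = g.1 0 0 := rfl
@[simp] theorem sl_b (g : SL(2, F)) : (sl g).b = g.1 0 1 := rfl
@[simp] theorem sl_c (g : SL(2, F)) : (sl g).c = g.1 1 0 := rfl
@[simp] theorem sl_d (g : SL(2, F)) : (sl g).d = g.1 1 1 := rfl

theorem pr_sl (g : SL(2, F)) : pr (sl g) = g := by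
  ext i j; fin_cases i <;> fin_cases j <;> rfl

theorem sl_injective : Function.Injective (sl : SL(2, F) → Cm F) :=
  Function.LeftInverse.injective pr_sl

theorem cz_mul (a a' : F) : cz a * cz a' = cz (a + a') := by ext <;> simp [cz]
theorem cz_zero : cz (0 : F) = 1 := rfl
theorem cz_inv (a : F) : (cz a)⁻¹ = cz (-a) := by ext <;> simp [cz]
theorem cz_inj {a a' : F} (h : cz a = cz a') : a = a' := congrArg Cm.z h
theorem cz_comm (a : F) (g : Cm F) : g * cz a = cz a * g := by ext <;> simp [cz]; ring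
theorem cz_eq (a : F) : cz a = cm a 0 0 := rfl
theorem cm_mul (a b c a' b' c' : F) : cm a b c * cm a' b' c' = cm (a + a') (b + b') (c + c') := by
  ext <;> simp [cm]; ring
theorem cm_zero : cm (0 : F) 0 0 = 1 := rfl
theorem cm_inv (a b c : F) : (cm a b c)⁻¹ = cm (-a) (-b) (-c) := by ext <;> simp [cm]
theorem cm_inj {a b c a' b' c' : F} (h : cm a b c = cm a' b' c') : a = a' ∧ b = b' ∧ c = c' :=
  ⟨congrArg Cm.z h, congrArg Cm.u h, congrArg Cm.b h⟩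
theorem cm_pow (a b c : F) (n : ℕ) : cm a b c ^ n = cm (n * a) (n * b) (n * c) := by
  induction n with
  | zero => simp [cm_zero]
  | succ n ih => rw [pow_succ, ih, cm_mul]; push_cast; congr 1 <;> ring
theorem cy_mul (u u' : F) : cy u * cy u' = cy (u + u') := by ext <;> simp [cy]; ring
theorem cy_zero : cy (0 : F) = 1 := by ext <;> simp [cy]
theorem cy_inv (u : F) : (cy u)⁻¹ = cy (-u) := by ext <;> simp [cy]
theorem cy_conj (u a b c : F) :
    cy u * cm a b c * (cy u)⁻¹ = cm (a + 2 * u * b + u ^ 2 * c) (b + u * c) c := by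
  ext <;> simp [cy, cm] <;> ring
theorem ch_mul (l l' : Fˣ) : ch l * ch l' = ch (l * l') := by ext <;> simp [ch]; ring
theorem ch_one : ch (1 : Fˣ) = 1 := by ext <;> simp [ch]
theorem ch_inv (l : Fˣ) : (ch l)⁻¹ = ch l⁻¹ := by ext <;> simp [ch]
theorem ch_conj (l : Fˣ) (a b c : F) :
    ch l * cm a b c * (ch l)⁻¹ = cm a (l * b) (l ^ 2 * c) := by
  ext <;> simp [ch, cm]; ring
theorem ch_conj_y (l : Fˣ) (u : F) : ch l * cy u * (ch l)⁻¹ = cy ((l⁻¹ : Fˣ) * u) := by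
  ext <;> simp [ch, cy]
theorem ct_eq : (ct : Cm F) = ch (-1) := by ext <;> simp [ch, ct]
theorem ct_mul_ct : (ct : Cm F) * ct = 1 := by ext <;> simp [ct]
theorem ct_inv : (ct : Cm F)⁻¹ = ct := inv_eq_of_mul_eq_one_right ct_mul_ct
theorem ct_conj (a b c : F) : ct * cm a b c * (ct : Cm F)⁻¹ = cm a (-b) c := by
  ext <;> simp [ct, cm]
theorem ct_ch (l : Fˣ) : ch l * (ct : Cm F) = ct * ch l := by ext <;> simp [ch, ct]

variable (F) in
/-- The centre. -/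
def Zs : Subgroup (Cm F) where
  carrier := {g | g.u = 0 ∧ g.w = 0 ∧ g.a = 1 ∧ g.b = 0 ∧ g.c = 0 ∧ g.d = 1}
  one_mem' := by simp
  mul_mem' := by
    rintro g h ⟨h1, h2, h3, h4, h5, h6⟩ ⟨k1, k2, k3, k4, k5, k6⟩
    simp [*]
  inv_mem' := by
    rintro g ⟨h1, h2, h3, h4, h5, h6⟩
    simp [*]

variable (F) in
/-- The Heisenberg group. -/
def Qs : Subgroup (Cm F) where
  carrier := {g | g.a = 1 ∧ g.b = 0 ∧ g.c = 0 ∧ g.d = 1}
  one_mem' := by simp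
  mul_mem' := by
    rintro g h ⟨h3, h4, h5, h6⟩ ⟨k3, k4, k5, k6⟩
    simp [*]
  inv_mem' := by
    rintro g ⟨h3, h4, h5, h6⟩
    simp [*]

variable (F) in
/-- The Sylow subgroup. -/
def Ps : Subgroup (Cm F) where
  carrier := {g | g.a = 1 ∧ g.c = 0 ∧ g.d = 1}
  one_mem' := by simp
  mul_mem' := by
    rintro g h ⟨h3, h5, h6⟩ ⟨k3, k5, k6⟩
    simp [*]
  inv_mem' := by
    rintro g ⟨h3, h5, h6⟩
    simp [*]

variable (F) in
/-- The large abelian subgroup. -/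
def Ms : Subgroup (Cm F) where
  carrier := {g | g.w = 0 ∧ g.a = 1 ∧ g.c = 0 ∧ g.d = 1}
  one_mem' := by simp
  mul_mem' := by
    rintro g h ⟨h2, h3, h5, h6⟩ ⟨k2, k3, k5, k6⟩
    simp [*]
  inv_mem' := by
    rintro g ⟨h2, h3, h5, h6⟩
    simp [*]

variable (F) in
/-- The Borel subgroup. -/
def Bs : Subgroup (Cm F) where
  carrier := {g | g.c = 0}
  one_mem' := by simp
  mul_mem' := by
    rintro g h (h5 : _ = _) (k5 : _ = _)
    simp [*]
  inv_mem' := by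
    rintro g (h5 : _ = _)
    simp [*]

theorem mem_Zs {g : Cm F} :
    g ∈ Zs F ↔ g.u = 0 ∧ g.w = 0 ∧ g.a = 1 ∧ g.b = 0 ∧ g.c = 0 ∧ g.d = 1 := Iff.rfl
theorem mem_Qs {g : Cm F} : g ∈ Qs F ↔ g.a = 1 ∧ g.b = 0 ∧ g.c = 0 ∧ g.d = 1 := Iff.rfl
theorem mem_Ps {g : Cm F} : g ∈ Ps F ↔ g.a = 1 ∧ g.c = 0 ∧ g.d = 1 := Iff.rfl
theorem mem_Ms {g : Cm F} : g ∈ Ms F ↔ g.w = 0 ∧ g.a = 1 ∧ g.c = 0 ∧ g.d = 1 := Iff.rfl
theorem mem_Bs {g : Cm F} : g ∈ Bs F ↔ g.c = 0 := Iff.rfl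

theorem mem_Zs' {g : Cm F} : g ∈ Zs F ↔ ∃ a, g = cz a :=
  ⟨fun ⟨h1, h2, h3, h4, h5, h6⟩ => ⟨g.z, by ext <;> simp [cz, *]⟩,
    by rintro ⟨a, rfl⟩; simp [mem_Zs, cz]⟩
theorem mem_Ms' {g : Cm F} : g ∈ Ms F ↔ ∃ a b c, g = cm a b c :=
  ⟨fun ⟨h1, h2, h3, h4⟩ => ⟨g.z, g.u, g.b, by ext <;> simp [cm, *]⟩,
    by rintro ⟨a, b, c, rfl⟩; simp [mem_Ms, cm]⟩
theorem mem_Qs' {g : Cm F} : g ∈ Qs F ↔ ∃ a b c, g = cq a b c :=
  ⟨fun ⟨h1, h2, h3, h4⟩ => ⟨g.z, g.u, g.w, by ext <;> simp [cq, *]⟩,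
    by rintro ⟨a, b, c, rfl⟩; simp [mem_Qs, cq]⟩
theorem mem_Ps' {g : Cm F} : g ∈ Ps F ↔ ∃ u a b c, g = cm a b c * cy u :=
  ⟨fun ⟨h1, h2, h3⟩ => ⟨-g.w, g.z - (g.u - g.b * g.w) * g.w, g.u - g.b * g.w, g.b, by
      ext <;> simp [cm, cy, *]⟩,
    by rintro ⟨u, a, b, c, rfl⟩; simp [mem_Ps, cm, cy]⟩
theorem cz_mem (a : F) : cz a ∈ Zs F := mem_Zs'.2 ⟨a, rfl⟩
theorem cm_mem (a b c : F) : cm a b c ∈ Ms F := mem_Ms'.2 ⟨a, b, c, rfl⟩
theorem cy_mem (u : F) : cy u ∈ Ps F := by simp [mem_Ps, cy]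
theorem Zs_le_Ms : Zs F ≤ Ms F := fun _ h => ⟨h.2.1, h.2.2.1, h.2.2.2.2⟩
theorem Zs_le_Qs : Zs F ≤ Qs F := fun _ h => h.2.2
theorem Ms_le_Ps : Ms F ≤ Ps F := fun _ h => h.2
theorem Qs_le_Ps : Qs F ≤ Ps F := fun _ h => ⟨h.1, h.2.2⟩
theorem Ps_le_Bs : Ps F ≤ Bs F := fun _ h => h.2.1
theorem ch_mem (l : Fˣ) : ch l ∈ Bs F := rfl

theorem mem_Bs' {g : Cm F} : g ∈ Bs F ↔ ∃ (l : Fˣ) (k : Cm F), k ∈ Ps F ∧ g = k * ch l := by
  constructor
  · intro (h : g.c = 0)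
    have hd := g.det
    rw [h, mul_zero, sub_zero] at hd
    refine ⟨Units.mkOfMulEqOne g.a g.d hd, g * (ch (Units.mkOfMulEqOne g.a g.d hd))⁻¹, ?_, by simp⟩
    have : g.a ≠ 0 := left_ne_zero_of_mul_eq_one hd
    simp [mem_Ps, ch, h, this]
    rw [mul_comm, hd]
  · rintro ⟨l, k, hk, rfl⟩
    exact (Bs F).mul_mem (Ps_le_Bs hk) (ch_mem l)

/-- Coordinates. -/
def eqv : Cm F ≃ F × F × F × SL(2, F) where
  toFun g := (g.z, g.u, g.w, pr g)
  invFun x := cq x.1 x.2.1 x.2.2.1 * sl x.2.2.2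
  left_inv g := by ext <;> simp [cq]
  right_inv x := by
    refine Prod.ext ?_ (Prod.ext ?_ (Prod.ext ?_ ?_))
    · simp [cq]
    · simp [cq]
    · simp [cq]
    · ext i j; fin_cases i <;> fin_cases j <;> simp [cq, Matrix.mul_apply, Fin.sum_univ_two]

instance instFiniteCm [Finite F] : Finite (Cm F) := Finite.of_equiv _ eqv.symm

theorem card_Zs : Nat.card (Zs F) = Nat.card F :=
  (Nat.card_congr (Equiv.ofBijective (fun a => (⟨cz a, cz_mem a⟩ : Zs F))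
    ⟨fun _ _ h => cz_inj (congrArg Subtype.val h), fun ⟨g, hg⟩ => by
      obtain ⟨a, rfl⟩ := mem_Zs'.1 hg; exact ⟨a, rfl⟩⟩)).symm

theorem card_Ms : Nat.card (Ms F) = Nat.card F ^ 3 := by
  rw [← Nat.card_congr (Equiv.ofBijective
    (fun x : F × F × F => (⟨cm x.1 x.2.1 x.2.2, cm_mem ..⟩ : Ms F))
    ⟨fun _ _ h => by
      obtain ⟨h1, h2, h3⟩ := cm_inj (congrArg Subtype.val h)
      exact Prod.ext h1 (Prod.ext h2 h3), fun ⟨g, hg⟩ => by
      obtain ⟨a, b, c, rfl⟩ := mem_Ms'.1 hg; exact ⟨(a, b, c), rfl⟩⟩)]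
  simp only [Nat.card_prod]; ring

theorem card_Qs : Nat.card (Qs F) = Nat.card F ^ 3 := by
  rw [← Nat.card_congr (Equiv.ofBijective
    (fun x : F × F × F => (⟨cq x.1 x.2.1 x.2.2, mem_Qs'.2 ⟨_, _, _, rfl⟩⟩ : Qs F))
    ⟨fun _ _ h => by
      have h' := congrArg Subtype.val h
      exact Prod.ext (congrArg Cm.z h') (Prod.ext (congrArg Cm.u h') (congrArg Cm.w h')),
      fun ⟨g, hg⟩ => by obtain ⟨a, b, c, rfl⟩ := mem_Qs'.1 hg; exact ⟨(a, b, c), rfl⟩⟩)]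
  simp only [Nat.card_prod]; ring

theorem card_Ps : Nat.card (Ps F) = Nat.card F ^ 4 := by
  rw [← Nat.card_congr (Equiv.ofBijective
    (fun x : F × F × F × F => (⟨⟨x.1, x.2.1, x.2.2.1, 1, x.2.2.2, 0, 1, by ring⟩,
      ⟨rfl, rfl, rfl⟩⟩ : Ps F))
    ⟨fun _ _ h => by
      have h' := congrArg Subtype.val h
      exact Prod.ext (congrArg Cm.z h') (Prod.ext (congrArg Cm.u h')
        (Prod.ext (congrArg Cm.w h') (congrArg Cm.b h'))),
      fun ⟨g, h1, h2, h3⟩ => ⟨(g.z, g.u, g.w, g.b), by ext <;> simp [*]⟩⟩)]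
  simp only [Nat.card_prod]; ring

theorem card_Cm : Nat.card (Cm F) = Nat.card F ^ 3 * Nat.card SL(2, F) := by
  rw [Nat.card_congr eqv]
  simp only [Nat.card_prod]; ring

end Cm

end H62.Hay
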