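import Mathlib
import Cfsg.Prelude.Def_Classical
import Cfsg.Agent.Lib.Hay.Model
import Cfsg.Agent.Lib.Sp.Order
import Cfsg.Agent.S0245

/-! The centraliser of a long root element of `PSp₄(q)`, `q` odd, is `q^{1+2} : SL₂(q)`. -/

set_option autoImplicit false

namespace H62.Hay

open Matrix Subgroup Cm
open scoped MatrixGroups

variable {F : Type*} [Field F]

/-- The matrix of an element. -/
def io (g : Cm F) : Matrix (Fin 2 ⊕ Fin 2) (Fin 2 ⊕ Fin 2) F :=
  fromBlocks !![1, g.u * g.c - g.w * g.a; 0, g.a] !![g.z, g.u * g.d - g.w * g.b; g.u, g.b]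
    !![0, 0; 0, g.c] !![1, 0; g.w, g.d]

omit [Field F] in
theorem tr2 (a b c d : F) : !![a, b; c, d]ᵀ = !![a, c; b, d] := by
  ext i j; fin_cases i <;> fin_cases j <;> rfl

theorem io_mem (g : Cm F) : io g ∈ symplecticGroup (Fin 2) F := by
  have := g.det
  rw [io, SymplecticGroup.fromBlocks_mem_iff]
  simp only [tr2, mul_fin_two]
  refine ⟨?_, ?_, ?_⟩
  · congr 1; simp; ring
  · congr 1; simp; grind
  · rw [one_fin_two]; ext i j; fin_cases i <;> fin_cases j <;> simp <;> grind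

theorem io_mul (g h : Cm F) : io (g * h) = io g * io h := by
  have := g.det
  simp only [io, fromBlocks_multiply, mul_fin_two]
  congr 1 <;> ext i j <;> fin_cases i <;> fin_cases j <;> simp <;> grind

theorem io_one : io (1 : Cm F) = 1 := by
  ext i j
  rcases i with i | i <;> rcases j with j | j <;> fin_cases i <;> fin_cases j <;> simp [io]

/-- The embedding in `Sp₄`. -/
def iota : Cm F →* symplecticGroup (Fin 2) F where
  toFun g := ⟨io g, io_mem g⟩
  map_one' := Subtype.ext io_one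
  map_mul' g h := Subtype.ext (io_mul g h)

theorem iota_coe (g : Cm F) : (iota g).1 =
    fromBlocks !![1, g.u * g.c - g.w * g.a; 0, g.a] !![g.z, g.u * g.d - g.w * g.b; g.u, g.b]
      !![0, 0; 0, g.c] !![1, 0; g.w, g.d] := rfl

/-- The embedding in `PSp₄`. -/
def iotaP : Cm F →* Cfsg.PSp 2 F := (QuotientGroup.mk' _).comp iota

theorem iotaP_injective : Function.Injective (iotaP : Cm F → _) := by
  rw [injective_iff_map_eq_one]
  intro g hg
  obtain ⟨s, hs⟩ := H11.Sp.mem_center_iff.1 ((QuotientGroup.eq_one_iff _).1 hg)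
  have e := fun i j => congrFun (congrFun hs i) j
  have h0 := e (.inl 0) (.inl 0)
  have h1 := e (.inl 0) (.inr 0)
  have h2 := e (.inl 1) (.inr 0)
  have h3 := e (.inr 1) (.inr 0)
  have h4 := e (.inl 1) (.inl 1)
  have h5 := e (.inl 1) (.inr 1)
  have h6 := e (.inr 1) (.inl 1)
  have h7 := e (.inr 1) (.inr 1)
  simp [iota_coe] at h0 h1 h2 h3 h4 h5 h6 h7
  ext <;> simp [*]

theorem comm_iota (h2 : (2 : F) ≠ 0) {a : F} (ha : a ≠ 0) (g s : symplecticGroup (Fin 2) F)
    (hs : s ∈ center (symplecticGroup (Fin 2) F)) (h : g * iota (cz a) = iota (cz a) * g * s) :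
    ∃ k : Cm F, ∃ s' ∈ center (symplecticGroup (Fin 2) F), g = iota k * s' := by
  obtain ⟨r, hr⟩ := H11.Sp.mem_center_iff.1 hs
  have hr1 : r = 1 := by
    have h' : g * iota (cz a) * g⁻¹ = iota (cz a) * s := by
      rw [h, mul_assoc, mul_assoc, mem_center_iff.1 hs g⁻¹ |>.symm, mul_inv_cancel_left]
    have h3 := congrArg (fun x : symplecticGroup (Fin 2) F => x.1.trace) h'
    have hi : (g⁻¹).1 * g.1 = 1 := congrArg Subtype.val (inv_mul_cancel g)
    simp only [Submonoid.coe_mul] at h3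
    rw [trace_mul_comm, ← Matrix.mul_assoc, hi, Matrix.one_mul, hr] at h3
    simp [iota_coe, cz, trace, Fintype.sum_sum_type, Fin.sum_univ_two] at h3
    have h4 : (2 : F) * 2 ≠ 0 := mul_ne_zero h2 h2
    apply mul_left_cancel₀ h4
    linear_combination -h3
  have hs1 : s = 1 := Subtype.ext (by rw [hr, hr1, one_smul]; rfl)
  rw [hs1, mul_one] at h
  have e := fun i j => congrFun (congrFun (congrArg Subtype.val h) i) j
  have e1 := e (.inl 0) (.inl 0)
  have e2 := e (.inl 0) (.inl 1)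
  have e3 := e (.inl 0) (.inr 1)
  have e4 := e (.inl 0) (.inr 0)
  have e5 := e (.inl 1) (.inr 0)
  have e6 := e (.inr 1) (.inr 0)
  simp [iota_coe, cz, Matrix.mul_apply, Fintype.sum_sum_type, Fin.sum_univ_two, ha]
    at e1 e2 e3 e4 e5 e6
  have f := fun i j => congrFun (congrFun (SymplecticGroup.mem_iff.1 g.2) i) j
  have f1 := f (.inl 0) (.inr 0)
  have f2 := f (.inl 0) (.inl 1)
  have f3 := f (.inl 0) (.inr 1)
  have f4 := f (.inl 1) (.inr 1)
  simp [Matrix.J, Matrix.mul_apply, Fintype.sum_sum_type, Fin.sum_univ_two, e1, e2, e3, e5, e6]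
    at f1 f2 f3 f4
  have e7 : g.1 (.inr 0) (.inr 0) = g.1 (.inl 0) (.inl 0) :=
    mul_left_cancel₀ ha (by linear_combination -e4)
  rw [e7] at f1
  set l := g.1 (.inl 0) (.inl 0) with hl
  have hm : l • (1 : Matrix (Fin 2 ⊕ Fin 2) (Fin 2 ⊕ Fin 2) F) ∈ symplecticGroup (Fin 2) F := by
    rw [SymplecticGroup.mem_iff]
    simp [smul_smul, f1]
  refine ⟨⟨l * g.1 (.inl 0) (.inr 0), l * g.1 (.inl 1) (.inr 0), l * g.1 (.inr 1) (.inr 0),
    l * g.1 (.inl 1) (.inl 1), l * g.1 (.inl 1) (.inr 1), l * g.1 (.inr 1) (.inl 1),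
    l * g.1 (.inr 1) (.inr 1), by grind⟩, ⟨_, hm⟩, H11.Sp.mem_center_iff.2 ⟨l, rfl⟩, ?_⟩
  apply Subtype.ext
  rw [Submonoid.coe_mul, iota_coe]
  simp only [Matrix.mul_smul, Matrix.mul_one]
  ext i j
  rcases i with i | i <;> rcases j with j | j <;> fin_cases i <;> fin_cases j <;>
    simp [e1, e2, e3, e5, e6, e7] <;> grind

theorem cent_iotaP (h2 : (2 : F) ≠ 0) {a : F} (ha : a ≠ 0) :
    centralizer {iotaP (cz a)} = (iotaP (F := F)).range := by
  ext g
  rw [mem_centralizer_singleton_iff]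
  constructor
  · intro h
    obtain ⟨g, rfl⟩ := QuotientGroup.mk_surjective g
    have h' : (QuotientGroup.mk (iota (cz a) * g) : Cfsg.PSp 2 F) =
        QuotientGroup.mk (g * iota (cz a)) := h.symm
    rw [QuotientGroup.eq] at h'
    obtain ⟨k, s, hs, rfl⟩ := comm_iota h2 ha g _ h' (by group)
    refine ⟨k, ?_⟩
    show (QuotientGroup.mk (iota k) : Cfsg.PSp 2 F) = QuotientGroup.mk (iota k * s)
    rw [QuotientGroup.eq]
    simpa using hs
  · rintro ⟨k, rfl⟩
    rw [← map_mul, ← map_mul, cz_comm]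

theorem Cm.center_Ps (h2 : (2 : F) ≠ 0) {g : Cm F} (hg : g ∈ Ps F)
    (h : ∀ k ∈ Ps F, k * g = g * k) : g ∈ Zs F := by
  obtain ⟨h3, h4, h5⟩ := hg
  have e1 := congrArg Cm.u (h (cm 0 0 1) (Ms_le_Ps (cm_mem ..)))
  have e2 := congrArg Cm.u (h (cy 1) (cy_mem _))
  have e3 := congrArg Cm.z (h (cy 1) (cy_mem _))
  simp [cm, cy, h3, h4, h5] at e1 e2 e3
  refine ⟨?_, e1, h3, e2, h4, h5⟩
  apply mul_left_cancel₀ h2
  rw [e1] at e3
  linear_combination e3

theorem Cm.center_eq (h2 : (2 : F) ≠ 0) : center (Cm F) = Zs F := by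
  ext g
  rw [mem_center_iff]
  constructor
  · intro h
    have e1 := congrArg Cm.u (h (cq 0 1 0))
    have e2 := congrArg Cm.w (h (cq 0 1 0))
    have e3 := congrArg Cm.w (h (cq 0 0 1))
    simp [cq] at e1 e2 e3
    exact center_Ps h2 ⟨by linear_combination -e1, e2, by linear_combination -e3⟩ fun k _ => h k
  · intro h k
    obtain ⟨a, rfl⟩ := mem_Zs'.1 h
    exact cz_comm a k

theorem two_ne_zero_of {p : ℕ} [hp : Fact p.Prime] [CharP F p] (h : p ≠ 2) : (2 : F) ≠ 0 := by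
  intro h2
  have : ((2 : ℕ) : F) = 0 := by exact_mod_cast h2
  rw [CharP.cast_eq_zero_iff F p] at this
  exact h ((Nat.prime_dvd_prime_iff_eq hp.out Nat.prime_two).1 this)

theorem not_dvd_pow_sub_one {p q : ℕ} [hp : Fact p.Prime] (hq : p ∣ q) (h0 : 0 < q) (n : ℕ) :
    ¬ p ∣ q ^ (n + 1) - 1 := fun h => by
  have h1 : p ∣ q ^ (n + 1) := Dvd.dvd.trans hq (dvd_pow_self q n.succ_ne_zero)
  have h2 : 0 < q ^ (n + 1) := pow_pos h0 _
  have := (Nat.dvd_sub h1 h)
  rw [show q ^ (n + 1) - (q ^ (n + 1) - 1) = 1 by omega] at this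
  exact hp.out.one_lt.ne' (Nat.dvd_one.1 this)

theorem isPGroup_Ps [Finite F] {p : ℕ} [Fact p.Prime] [CharP F p] : IsPGroup p (Ps F) := by
  have := Fintype.ofFinite F
  obtain ⟨k, -, hk⟩ := FiniteField.card F p
  exact IsPGroup.of_card (n := k * 4) (by rw [card_Ps, Nat.card_eq_fintype_card, hk, pow_mul])

theorem not_dvd_index_PSp [Fintype F] {p : ℕ} [hp : Fact p.Prime] [CharP F p] :
    ¬ p ∣ ((Ps F).map iotaP).index := by
  intro h
  obtain ⟨k, -, hk⟩ := FiniteField.card F p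
  have h2 := Cfsg.Agent.S0245.result (F := F) rfl 2
  have h3 : p ∣ Fintype.card F := hk ▸ dvd_pow_self p k.ne_zero
  have h0 := Fintype.card_pos (α := F)
  have c1 := ((Ps F).map iotaP).card_mul_index
  rw [card_map_of_injective iotaP_injective, card_Ps, Nat.card_eq_fintype_card] at c1
  have c2 := (center (symplecticGroup (Fin 2) F)).card_eq_card_quotient_mul_card_subgroup
  rw [h2, Finset.prod_range_succ, Finset.prod_range_one, ← c1, mul_assoc] at c2
  have c3 := Nat.eq_of_mul_eq_mul_left (pow_pos h0 4) c2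
  have c4 := (h.mul_right (Nat.card (center (symplecticGroup (Fin 2) F))))
  rw [← c3] at c4
  rcases (Nat.Prime.dvd_mul hp.out).1 c4 with h | h
  · exact not_dvd_pow_sub_one h3 h0 1 h
  · exact not_dvd_pow_sub_one h3 h0 3 h

/-- The centraliser of a `p`-central element of `PSp₄(q)`. -/
theorem exists_equiv [Fintype F] {p : ℕ} [hp : Fact p.Prime] [CharP F p] (hp2 : p ≠ 2)
    (x : Cfsg.PSp 2 F) (hx : x ≠ 1) (U : Sylow p (Cfsg.PSp 2 F))
    (hxU : x ∈ (U : Subgroup (Cfsg.PSp 2 F)))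
    (hxc : ∀ y ∈ (U : Subgroup (Cfsg.PSp 2 F)), y * x = x * y) :
    Nonempty (Cm F ≃* centralizer {x}) := by
  have h2 := two_ne_zero_of (F := F) hp2
  let P0 := ((isPGroup_Ps (F := F) (p := p)).map iotaP).toSylow not_dvd_index_PSp
  obtain ⟨g, hg⟩ := MulAction.exists_smul_eq (Cfsg.PSp 2 F) P0 U
  have hm : ∀ y, y ∈ (U : Subgroup (Cfsg.PSp 2 F)) ↔ g⁻¹ * y * g ∈ (Ps F).map iotaP := by
    intro y
    rw [← hg, Sylow.coe_subgroup_smul, mem_pointwise_smul_iff_inv_smul_mem]
    simp [P0]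
  obtain ⟨k, hk, hkx⟩ := (hm x).1 hxU
  have hkz : k ∈ Zs F := center_Ps h2 hk fun k' hk' => iotaP_injective (by
    have := hxc (g * iotaP k' * g⁻¹) ((hm _).2 ⟨k', hk', by group⟩)
    rw [map_mul, map_mul, hkx]
    calc iotaP k' * (g⁻¹ * x * g) = g⁻¹ * (g * iotaP k' * g⁻¹ * x) * g := by group
      _ = _ := by rw [this]; group)
  obtain ⟨a, rfl⟩ := mem_Zs'.1 hkz
  have ha : a ≠ 0 := by
    rintro rfl
    rw [cz_zero, map_one] at hkx
    apply hx
    calc x = g * (g⁻¹ * x * g) * g⁻¹ := by group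
      _ = 1 := by rw [← hkx]; group
  let f := (MulAut.conj g).toMonoidHom.comp (iotaP (F := F))
  have hf : Function.Injective f := (MulAut.conj g).injective.comp iotaP_injective
  have hr : f.range = centralizer {x} := by
    ext y
    have := cent_iotaP h2 ha
    rw [hkx] at this
    constructor
    · rintro ⟨k, rfl⟩
      have h1 : iotaP k ∈ centralizer {g⁻¹ * x * g} := this ▸ ⟨k, rfl⟩
      rw [mem_centralizer_singleton_iff] at h1 ⊢
      show g * iotaP k * g⁻¹ * x = x * (g * iotaP k * g⁻¹)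
      calc _ = g * (iotaP k * (g⁻¹ * x * g)) * g⁻¹ := by group
        _ = _ := by rw [h1]; group
    · intro hy
      have h1 : g⁻¹ * y * g ∈ centralizer {g⁻¹ * x * g} := by
        rw [mem_centralizer_singleton_iff] at hy ⊢
        calc _ = g⁻¹ * (y * x) * g := by group
          _ = _ := by rw [hy]; group
      rw [this] at h1
      obtain ⟨k, hk⟩ := h1
      refine ⟨k, ?_⟩
      show g * iotaP k * g⁻¹ = y
      rw [hk]; group
  exact ⟨(MonoidHom.ofInjective hf).trans (MulEquiv.subgroupCongr hr)⟩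

/-- The standing hypothesis: a copy of `q^{1+2} : SL₂(q)` that is the centraliser of every
non-trivial element of its centre. -/
structure Hy {G : Type*} [Group G] (φ : Cm F →* G) : Prop where
  inj : Function.Injective φ
  cent : ∀ a : F, a ≠ 0 → centralizer {φ (cz a)} = φ.range

theorem exists_hy {G : Type*} [Group G] {α : G}
    (e : Cm F ≃* centralizer {α})
    (hb : ∀ z : G, z ≠ 1 → z ∈ centralizer {α} → (∀ c ∈ centralizer {α}, c * z = z * c) →
      centralizer {z} = centralizer {α}) :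
    ∃ φ : Cm F →* G, Hy φ ∧ φ.range = centralizer {α} := by
  let φ : Cm F →* G := (centralizer {α}).subtype.comp e.toMonoidHom
  have hi : Function.Injective φ := Subtype.val_injective.comp e.injective
  have hr : φ.range = centralizer {α} := by
    ext y
    constructor
    · rintro ⟨k, rfl⟩
      exact (e k).2
    · intro hy
      exact ⟨e.symm ⟨y, hy⟩, by simp [φ]⟩
  refine ⟨φ, ⟨hi, fun a ha => ?_⟩, hr⟩
  rw [hr]
  refine hb _ (fun h => ha (cz_inj (hi (h.trans (map_one φ).symm)))) (hr ▸ ⟨_, rfl⟩) fun c hc => ?_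
  rw [← hr] at hc
  obtain ⟨k, rfl⟩ := hc
  rw [← map_mul, ← map_mul, cz_comm]

end H62.Hay
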