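import Mathlib

/-! Groups of additive permutations of the space of binary quadratic forms in which the
stabiliser of each non-zero point of a fixed line is the standard Borel-like subgroup. -/

set_option autoImplicit false

namespace H62.Hay

open Equiv

variable {F : Type*} [Field F]

/-- The action of `[1 s; 0 l]` on binary quadratic forms. -/
def bor (s l : F) (v : F × F × F) : F × F × F :=
  (v.1 + 2 * s * v.2.1 + s ^ 2 * v.2.2, l * v.2.1 + s * l * v.2.2, l ^ 2 * v.2.2)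

theorem sq_or_neg [Finite F] (h : ¬ IsSquare (-1 : F)) (a : F) :
    (∃ r, a = r ^ 2) ∨ ∃ r, a = -r ^ 2 := by
  classical
  have := Fintype.ofFinite F
  by_cases ha : IsSquare a
  · obtain ⟨r, hr⟩ := ha
    exact Or.inl ⟨r, by rw [hr]; ring⟩
  · have a0 : a ≠ 0 := by rintro rfl; exact ha IsSquare.zero
    have h1 := quadraticChar_neg_one_iff_not_isSquare.2 h
    have h2 := quadraticChar_neg_one_iff_not_isSquare.2 ha
    have h3 : quadraticChar F (-1 * a) = 1 := by rw [map_mul, h1, h2]; norm_num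
    obtain ⟨r, hr⟩ := (quadraticChar_one_iff_isSquare (by simpa using a0)).1 h3
    exact Or.inr ⟨r, by linear_combination -hr⟩

theorem two_ne_of_nsq (h : ¬ IsSquare (-1 : F)) : (2 : F) ≠ 0 := fun h2 =>
  h ⟨1, by linear_combination -h2⟩

theorem sq_add_sq (h : ¬ IsSquare (-1 : F)) {a b : F} (e : a ^ 2 + b ^ 2 = 0) : b = 0 := by
  by_contra hb
  exact h ⟨a / b, by field_simp; linear_combination -e⟩

/-- The hypotheses on the group of permutations. -/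
structure Gam (Γ : Subgroup (Perm (F × F × F))) : Prop where
  nsq : ¬ IsSquare (-1 : F)
  add : ∀ γ ∈ Γ, ∀ v w, γ (v + w) = γ v + γ w
  hb : ∀ s l : F, l ≠ 0 → ∃ γ ∈ Γ, ∀ v, γ v = bor s l v
  st : ∀ γ ∈ Γ, ∀ a : F, a ≠ 0 → γ (a, 0, 0) = (a, 0, 0) → ∃ s l, l ≠ 0 ∧ ∀ v, γ v = bor s l v
  hc : ∃ a b : F, a ≠ 0 ∧ b ≠ 0 ∧ ∀ γ ∈ Γ, γ (a, 0, 0) ≠ (b, 0, 0)

namespace Gam

variable {Γ : Subgroup (Perm (F × F × F))} (h : Gam Γ)
include h

theorem two : (2 : F) ≠ 0 := two_ne_of_nsq h.nsq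

theorem zero {γ : Perm (F × F × F)} (hγ : γ ∈ Γ) : γ 0 = 0 := by
  have := h.add γ hγ 0 0
  rw [add_zero] at this
  exact left_eq_add.1 this

theorem neg {γ : Perm (F × F × F)} (hγ : γ ∈ Γ) (v : F × F × F) : γ (-v) = -γ v := by
  have := h.add γ hγ v (-v)
  rw [add_neg_cancel, h.zero hγ] at this
  exact (neg_eq_of_add_eq_zero_right this.symm).symm

theorem ne_zero {γ : Perm (F × F × F)} (hγ : γ ∈ Γ) {v : F × F × F} (hv : v ≠ 0) : γ v ≠ 0 :=
  fun e => hv (γ.injective (e.trans (h.zero hγ).symm))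

theorem fix {γ δ : Perm (F × F × F)} (hγ : γ ∈ Γ) (hδ : δ ∈ Γ) {a : F} (ha : a ≠ 0)
    (e : δ (γ (a, 0, 0)) = γ (a, 0, 0)) (b : F) : δ (γ (b, 0, 0)) = γ (b, 0, 0) := by
  obtain ⟨s, l, -, hs⟩ := h.st (γ⁻¹ * δ * γ) (Γ.mul_mem (Γ.mul_mem (Γ.inv_mem hγ) hδ) hγ) a ha
    (by simp [e])
  have := hs (b, 0, 0)
  simp only [bor, Perm.mul_apply, mul_zero, add_zero] at this
  simpa using congrArg γ this

theorem ti {γ : Perm (F × F × F)} (hγ : γ ∈ Γ) {a b : F} (ha : a ≠ 0)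
    (e : γ (a, 0, 0) = (b, 0, 0)) (a' : F) : ∃ b', γ (a', 0, 0) = (b', 0, 0) := by
  obtain ⟨y, hy, hy'⟩ := h.hb 1 1 one_ne_zero
  have := h.fix hγ hy ha (by rw [e, hy']; simp [bor]) a'
  rw [hy'] at this
  obtain ⟨x, y, z, hx⟩ : ∃ x y z, γ (a', 0, 0) = (x, y, z) := ⟨_, _, _, rfl⟩
  rw [hx] at this
  simp only [bor, Prod.mk.injEq] at this
  obtain ⟨h1, h2, -⟩ := this
  have hz : z = 0 := by linear_combination h2
  have hy : y = 0 := mul_left_cancel₀ h.two (by rw [hz] at h1; linear_combination h1)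
  exact ⟨x, by rw [hx, hy, hz]⟩

theorem ti2 {γ δ : Perm (F × F × F)} (hγ : γ ∈ Γ) (hδ : δ ∈ Γ) {a b : F} (ha : a ≠ 0)
    (e : δ (γ (a, 0, 0)) = γ (b, 0, 0)) (a' : F) : ∃ b', δ (γ (a', 0, 0)) = γ (b', 0, 0) := by
  obtain ⟨b', hb⟩ := h.ti (γ := γ⁻¹ * δ * γ) (Γ.mul_mem (Γ.mul_mem (Γ.inv_mem hγ) hδ) hγ) ha
    (b := b) (by simp [e]) a'
  exact ⟨b', by simpa using congrArg γ hb⟩

/-- No element of the plane `c = 0` off the line is conjugate into the line. -/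
theorem plane {γ : Perm (F × F × F)} (hγ : γ ∈ Γ) {a x y : F} (e : γ (a, 0, 0) = (x, y, 0)) :
    y = 0 := by
  by_contra hy
  have h2 := h.two
  have ha : a ≠ 0 := by
    rintro rfl
    have := (h.zero hγ).symm.trans e
    exact hy (congrArg (fun v => v.2.1) this).symm
  obtain ⟨Y, hY, hY'⟩ := h.hb (-x / (2 * y)) 1 one_ne_zero
  obtain ⟨T, hT, hT'⟩ := h.hb 0 (-1) (by simp)
  have hg : Y * γ ∈ Γ := Γ.mul_mem hY hγ
  have e1 : (Y * γ) (a, 0, 0) = (0, y, 0) := by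
    rw [Perm.mul_apply, e, hY']
    simp [bor]
    field_simp
    ring
  have e2 : T ((Y * γ) (a, 0, 0)) = (Y * γ) (-a, 0, 0) := by
    have := h.neg hg (a, 0, 0)
    simp only [Prod.neg_mk, neg_zero] at this
    rw [this, e1, hT']
    simp [bor]
  have key : ∀ a' : F, a' ≠ 0 → ∃ y', y' ≠ 0 ∧ (Y * γ) (a', 0, 0) = (0, y', 0) := by
    intro a' ha'
    obtain ⟨b', hb'⟩ := h.ti2 hg hT ha e2 a'
    obtain ⟨x', y', z', hx⟩ : ∃ x y z, (Y * γ) (a', 0, 0) = (x, y, z) := ⟨_, _, _, rfl⟩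
    have e3 : (Y * γ) (a' + b', 0, 0) = (2 * x', 0, 2 * z') := by
      have := h.add _ hg (a', 0, 0) (b', 0, 0)
      simp only [Prod.mk_add_mk, add_zero] at this
      rw [this, ← hb', hx, hT']
      simp [bor]
      constructor <;> ring
    have e4 : a' + b' = 0 := by
      by_contra hne
      have := h.fix hg hT hne (by rw [e3, hT']; simp [bor]) a
      rw [e1, hT'] at this
      simp [bor] at this
      exact hy (mul_left_cancel₀ h2 (by linear_combination -this))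
    rw [e4] at e3
    have e5 := (h.zero hg).symm.trans e3
    have hx' : x' = 0 := mul_left_cancel₀ h2 (by simpa using (congrArg (fun v => v.1) e5).symm)
    have hz' : z' = 0 := mul_left_cancel₀ h2 (by simpa using (congrArg (fun v => v.2.2) e5).symm)
    refine ⟨y', fun hy' => ?_, by rw [hx, hx', hz']⟩
    rw [hx', hy', hz'] at hx
    exact h.ne_zero hg (v := (a', 0, 0)) (by simpa using ha') hx
  obtain ⟨a1, b1, ha1, hb1, hc⟩ := h.hc
  obtain ⟨y1, hy1, k1⟩ := key a1 ha1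
  obtain ⟨y2, hy2, k2⟩ := key b1 hb1
  obtain ⟨D, hD, hD'⟩ := h.hb 0 (y2 / y1) (div_ne_zero hy2 hy1)
  refine hc ((Y * γ)⁻¹ * D * (Y * γ)) (Γ.mul_mem (Γ.mul_mem (Γ.inv_mem hg) hD) hg) ?_
  rw [Perm.mul_apply, Perm.mul_apply, k1, hD', Perm.inv_eq_iff_eq, k2]
  simp [bor]
  field_simp

theorem third {γ : Perm (F × F × F)} (hγ : γ ∈ Γ) {a : F} (hn : ∀ b, γ (a, 0, 0) ≠ (b, 0, 0))
    {a' : F} (ha' : a' ≠ 0) : (γ (a', 0, 0)).2.2 ≠ 0 := by
  intro e
  obtain ⟨x, y, z, hx⟩ : ∃ x y z, γ (a', 0, 0) = (x, y, z) := ⟨_, _, _, rfl⟩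
  rw [hx] at e
  simp only at e
  subst e
  have := h.plane hγ hx
  subst this
  obtain ⟨b, hb⟩ := h.ti hγ ha' hx a
  exact hn b hb

theorem third_surj [Finite F] {γ : Perm (F × F × F)} (hγ : γ ∈ Γ) {a : F}
    (hn : ∀ b, γ (a, 0, 0) ≠ (b, 0, 0)) (c : F) : ∃ a', (γ (a', 0, 0)).2.2 = c := by
  refine Finite.surjective_of_injective (f := fun a' => (γ (a', 0, 0)).2.2) (fun a1 a2 e => ?_) c
  by_contra hne
  refine h.third hγ hn (sub_ne_zero.2 hne) ?_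
  have e1 := h.add γ hγ (a1 - a2, 0, 0) (a2, 0, 0)
  simp only [Prod.mk_add_mk, add_zero, sub_add_cancel] at e1
  have := congrArg (fun v => v.2.2) e1
  simp only [Prod.snd_add] at this e
  linear_combination e - this

theorem graph [Finite F] {γ : Perm (F × F × F)} (hγ : γ ∈ Γ) {a : F}
    (hn : ∀ b, γ (a, 0, 0) ≠ (b, 0, 0)) : ∃ s, ∀ a', (bor s 1 (γ (a', 0, 0))).2.1 = 0 := by
  obtain ⟨a1, h1⟩ := h.third_surj hγ hn 1
  refine ⟨-(γ (a1, 0, 0)).2.1, fun a' => ?_⟩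
  obtain ⟨Y, hY, hY'⟩ := h.hb (-(γ (a1, 0, 0)).2.1) 1 one_ne_zero
  obtain ⟨T, hT, hT'⟩ := h.hb 0 (-1) (by simp)
  have ha1 : a1 ≠ 0 := by
    rintro rfl
    rw [show ((0 : F), (0 : F), (0 : F)) = 0 from rfl, h.zero hγ] at h1
    exact zero_ne_one h1
  have := h.fix (Γ.mul_mem hY hγ) hT ha1 (by
    rw [hT', Perm.mul_apply, hY']
    simp [bor, h1]) a'
  rw [hT', Perm.mul_apply, hY'] at this
  have e := congrArg (fun v => v.2.1) this
  generalize bor _ 1 (γ (a', 0, 0)) = v at e ⊢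
  simp [bor] at e
  exact mul_left_cancel₀ h.two (by linear_combination -e)

theorem adjust {γ : Perm (F × F × F)} (hγ : γ ∈ Γ) (h0 : ∀ a, (γ (a, 0, 0)).2.1 = 0) :
    ∃ n ∈ Γ, (∀ v, n (bor 0 (-1) v) = bor 0 (-1) (n v)) ∧ ∀ a, n (a, 0, 0) = γ (a, 0, 0) := by
  have h2 := h.two
  obtain ⟨T, hT, hT'⟩ := h.hb 0 (-1) (by simp)
  have hf : ∀ a, T (γ (a, 0, 0)) = γ (a, 0, 0) := fun a => by
    rw [hT']
    ext <;> simp [bor, h0]
  obtain ⟨s, l, hl, hs⟩ := h.st (γ⁻¹ * T * γ) (Γ.mul_mem (Γ.mul_mem (Γ.inv_mem hγ) hT) hγ) 1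
    one_ne_zero (by simp [hf])
  have hs' : ∀ v, T (γ v) = γ (bor s l v) := fun v => by rw [← hs]; simp
  have TT : ∀ v, T (T v) = v := fun v => by rw [hT', hT']; simp [bor]
  have e1 : bor s l (bor s l (0, 1, 0)) = (0, 1, 0) :=
    γ.injective (by rw [← hs', ← hs', TT])
  simp [bor] at e1
  obtain ⟨e1, e2⟩ := e1
  have hl' : l = -1 := by
    by_contra hne
    have l1 : l = 1 := by
      have : (l - 1) * (l + 1) = 0 := by linear_combination e2
      rcases mul_eq_zero.1 this with h | h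
      · linear_combination h
      · exact absurd (by linear_combination h) hne
    have s0 : s = 0 := by
      rw [l1] at e1
      exact mul_left_cancel₀ (mul_ne_zero h2 h2) (by linear_combination e1)
    have := hs' (γ⁻¹ (0, 1, 0))
    rw [l1, s0] at this
    simp [bor, hT'] at this
    exact h2 (by linear_combination -this)
  subst hl'
  obtain ⟨Y, hY, hY'⟩ := h.hb (-s / 2) 1 one_ne_zero
  refine ⟨γ * Y, Γ.mul_mem hγ hY, fun v => ?_, fun a => ?_⟩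
  · rw [← hT' ((γ * Y) v), Perm.mul_apply, Perm.mul_apply, hs', hY', hY']
    congr 1
    ext <;> simp [bor] <;> field_simp <;> ring
  · rw [Perm.mul_apply, hY']
    simp [bor]

theorem mid {n : Perm (F × F × F)} (hn : n ∈ Γ)
    (hT : ∀ v, n (bor 0 (-1) v) = bor 0 (-1) (n v)) (b : F) : ∃ b', n (0, b, 0) = (0, b', 0) := by
  have e := hT (0, b, 0)
  have e' := h.neg hn (0, b, 0)
  obtain ⟨x, y, z, hx⟩ : ∃ x y z, n (0, b, 0) = (x, y, z) := ⟨_, _, _, rfl⟩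
  simp [bor] at e e'
  rw [e', hx] at e
  simp at e
  refine ⟨y, ?_⟩
  rw [hx, show x = 0 from mul_left_cancel₀ h.two (by linear_combination -e.1),
    show z = 0 from mul_left_cancel₀ h.two (by linear_combination -e.2)]

omit h in
theorem inv_T {n : Perm (F × F × F)} (hT : ∀ v, n (bor 0 (-1) v) = bor 0 (-1) (n v)) (v : F × F × F) :
    n⁻¹ (bor 0 (-1) v) = bor 0 (-1) (n⁻¹ v) := by
  rw [Perm.inv_eq_iff_eq, hT]; simp

theorem not_sq {γ δ : Perm (F × F × F)} (hγ : γ ∈ Γ) (hδ : δ ∈ Γ)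
    (h0 : ∀ a, (δ (a, 0, 0)).2.1 = 0) {a b x y c u : F} (hc : c ≠ 0)
    (e1 : γ (a, 0, 0) = (x, 0, c)) (e2 : δ (b, 0, 0) = (y, 0, c)) (e : y - x = u ^ 2 * c) :
    u = 0 := by
  obtain ⟨n, hn, hT, hn'⟩ := h.adjust hδ h0
  obtain ⟨Y, hY, hY'⟩ := h.hb u 1 one_ne_zero
  obtain ⟨b', hb'⟩ := h.mid (Γ.inv_mem hn) (inv_T hT) (u * c)
  have e3 : (n⁻¹ * Y * γ) (a, 0, 0) = (b, b', 0) := by
    rw [Perm.mul_apply, Perm.mul_apply, e1, hY', Perm.inv_eq_iff_eq]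
    have := h.add n hn (b, 0, 0) (0, b', 0)
    simp only [Prod.mk_add_mk, add_zero, zero_add] at this
    rw [this, hn', e2, ← hb']
    simp [bor]
    linear_combination -e
  have := h.plane (Γ.mul_mem (Γ.mul_mem (Γ.inv_mem hn) hY) hγ) e3
  rw [this, Perm.inv_eq_iff_eq, show ((0 : F), (0 : F), (0 : F)) = 0 from rfl, h.zero hn] at hb'
  have := congrArg (fun v => v.2.1) hb'
  simpa [hc] using this

/-- Two conjugates of the line in the plane `b = 0` are the same graph. -/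
theorem uniq [Finite F] {γ δ : Perm (F × F × F)} (hγ : γ ∈ Γ) (hδ : δ ∈ Γ)
    (g0 : ∀ a, (γ (a, 0, 0)).2.1 = 0) (h0 : ∀ a, (δ (a, 0, 0)).2.1 = 0) {a b x y c : F}
    (hc : c ≠ 0) (e1 : γ (a, 0, 0) = (x, 0, c)) (e2 : δ (b, 0, 0) = (y, 0, c)) : x = y := by
  rcases sq_or_neg h.nsq ((y - x) / c) with ⟨r, hr⟩ | ⟨r, hr⟩
  · have e : y - x = r ^ 2 * c := by rw [← hr]; field_simp
    have := h.not_sq hγ hδ h0 hc e1 e2 e
    rw [this] at e
    linear_combination -e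
  · have e : x - y = r ^ 2 * c := by
      have : y - x = -r ^ 2 * c := by rw [← hr]; field_simp
      linear_combination -this
    have := h.not_sq hδ hγ g0 hc e2 e1 e
    rw [this] at e
    linear_combination e

/-- The swapping element. -/
theorem exists_swap [Finite F] (hn : ∃ γ ∈ Γ, ∃ a, ∀ b, γ (a, 0, 0) ≠ (b, 0, 0)) :
    ∃ n ∈ Γ, ∃ f : F →+ F, (∀ v, n (bor 0 (-1) v) = bor 0 (-1) (n v)) ∧
      (∀ a, ∃ c, n (a, 0, 0) = (f c, 0, c)) ∧ ∀ l c, l ≠ 0 → f (l ^ 2 * c) = f c := by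
  obtain ⟨γ, hγ, a, ha⟩ := hn
  obtain ⟨s, hs⟩ := h.graph hγ ha
  obtain ⟨Y, hY, hY'⟩ := h.hb s 1 one_ne_zero
  obtain ⟨n, hn, hT, hn'⟩ := h.adjust (Γ.mul_mem hY hγ) (fun a => by
    rw [Perm.mul_apply, hY', hs])
  have n0 : ∀ a, (n (a, 0, 0)).2.1 = 0 := fun a => by rw [hn', Perm.mul_apply, hY', hs]
  have ha' : ∀ b, n (a, 0, 0) ≠ (b, 0, 0) := fun b e => by
    rw [hn', Perm.mul_apply] at e
    refine ha b (Y.injective (e.trans ?_))
    rw [hY']; simp [bor]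
  choose σ hσ using h.third_surj hn ha'
  have nadd : ∀ a b, n (a + b, 0, 0) = n (a, 0, 0) + n (b, 0, 0) := fun a b => by
    rw [← h.add n hn]; simp
  have inj : ∀ a b, (n (a, 0, 0)).2.2 = (n (b, 0, 0)).2.2 → a = b := fun a1 a2 e => by
    by_contra hne
    refine h.third hn ha' (sub_ne_zero.2 hne) ?_
    have := congrArg (fun v => v.2.2) (nadd (a1 - a2) a2)
    simp only [Prod.snd_add, sub_add_cancel] at this
    linear_combination e - this
  have σadd : ∀ c c', σ (c + c') = σ c + σ c' := fun c c' => inj _ _ (by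
    rw [nadd, hσ]; simp [hσ])
  let f : F →+ F := AddMonoidHom.mk' (fun c => (n (σ c, 0, 0)).1) fun c c' => by
    simp only [σadd, nadd, Prod.fst_add]
  have nf : ∀ c, n (σ c, 0, 0) = (f c, 0, c) := fun c => Prod.ext rfl (Prod.ext (n0 _) (hσ c))
  refine ⟨n, hn, f, hT, fun a => ⟨(n (a, 0, 0)).2.2, ?_⟩, fun l c hl => ?_⟩
  · rw [← nf, inj (σ _) a (hσ _)]
  · by_cases hc : c = 0
    · rw [hc, mul_zero]
    obtain ⟨D, hD, hD'⟩ := h.hb 0 l hl
    refine h.uniq hn (Γ.mul_mem hD hn) n0 (fun a => ?_) (mul_ne_zero (pow_ne_zero 2 hl) hc)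
      (nf _) (b := σ c) ?_
    · rw [Perm.mul_apply, hD']; simp [bor, n0]
    · rw [Perm.mul_apply, hD', nf]; simp [bor]

end Gam

end H62.Hay
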