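import Mathlib
import Cfsg.Agent.Lib.Hay.Sp
import Cfsg.Agent.Lib.Hay.Lin
import Cfsg.Agent.Lib.GL.Basic

/-! Sylow theory of a group with a `p`-central centraliser as in `PSp₄(q)`. -/

set_option autoImplicit false

namespace H62.Hay

open Subgroup Cm Equiv
open scoped MatrixGroups

section Gen

variable {G : Type*} [Group G]

/-- The conjugate `g A g⁻¹`. -/
def cj (g : G) (A : Subgroup G) : Subgroup G := A.map (MulAut.conj g).toMonoidHom

theorem mem_cj {g x : G} {A : Subgroup G} : x ∈ cj g A ↔ g⁻¹ * x * g ∈ A := by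
  constructor
  · rintro ⟨y, hy, rfl⟩
    simpa [mul_assoc] using hy
  · intro h
    exact ⟨_, h, by simp [mul_assoc]⟩

theorem conj_mem_cj {g x : G} {A : Subgroup G} (h : x ∈ A) : g * x * g⁻¹ ∈ cj g A :=
  mem_cj.2 (by simpa [mul_assoc] using h)

theorem card_cj (g : G) (A : Subgroup G) : Nat.card (cj g A) = Nat.card A :=
  card_map_of_injective (MulAut.conj g).injective

theorem cj_cj (g h : G) (A : Subgroup G) : cj g (cj h A) = cj (g * h) A := by
  ext x; simp [mem_cj, mul_assoc]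

theorem cj_one (A : Subgroup G) : cj 1 A = A := by ext x; simp [mem_cj]

theorem cj_mono (g : G) {A B : Subgroup G} (h : A ≤ B) : cj g A ≤ cj g B := map_mono h

theorem isPGroup_cj {p : ℕ} (g : G) {A : Subgroup G} (h : IsPGroup p A) : IsPGroup p (cj g A) :=
  h.map _

theorem cj_eq_iff {g : G} {A : Subgroup G} : cj g A = A ↔ g ∈ normalizer (A : Set G) := by
  rw [mem_normalizer_iff'']
  constructor
  · intro h x
    rw [← mem_cj, h]
  · intro h
    ext x
    rw [mem_cj, ← h]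

theorem cj_sylow {p : ℕ} (g : G) (P : Sylow p G) : ((g • P : Sylow p G) : Subgroup G) = cj g P := rfl

theorem mem_normalizer_of_le [Finite G] {g : G} {A : Subgroup G}
    (h : ∀ x ∈ A, g * x * g⁻¹ ∈ A) : g ∈ normalizer (A : Set G) :=
  cj_eq_iff.1 (eq_of_le_of_card_ge (by rintro _ ⟨x, hx, rfl⟩; exact h x hx) (card_cj g A).ge)

theorem exists_conj_le [Finite G] {p : ℕ} [Fact p.Prime] {A B D : Subgroup G} (hA : IsPGroup p A)
    (hB : IsPGroup p B) (hAD : A ≤ D) (hBD : B ≤ D) :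
    ∃ d ∈ D, ∃ S : Subgroup G, IsPGroup p S ∧ S ≤ D ∧ cj d A ≤ S ∧ B ≤ S := by
  obtain ⟨P, hP⟩ := (hA.comap_subtype (K := D)).exists_le_sylow
  obtain ⟨Q, hQ⟩ := (hB.comap_subtype (K := D)).exists_le_sylow
  obtain ⟨d, hd⟩ := MulAction.exists_smul_eq D P Q
  refine ⟨d, d.2, (Q : Subgroup D).map D.subtype, Q.2.map _, map_subtype_le _, ?_, fun x hx =>
    ⟨⟨x, hBD hx⟩, hQ hx, rfl⟩⟩
  rintro _ ⟨x, hx, rfl⟩
  refine ⟨d * ⟨x, hAD hx⟩ * d⁻¹, ?_, rfl⟩
  rw [← hd]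
  exact conj_mem_cj (A := (P : Subgroup D)) (hP hx)

theorem exists_conj_le_sylow [Finite G] {p : ℕ} [Fact p.Prime] {A : Subgroup G}
    (hA : IsPGroup p A) (P : Sylow p G) : ∃ g, cj g A ≤ P := by
  obtain ⟨d, -, S, hS, -, h1, h2⟩ := exists_conj_le hA P.2 le_top le_top
  exact ⟨d, h1.trans (P.3 hS h2).le⟩

end Gen

variable {F : Type*} [Field F]

namespace Cm

theorem cent_Ms (h2 : (2 : F) ≠ 0) {g : Cm F} (h : g * cm 0 1 0 = cm 0 1 0 * g) : g ∈ Ms F := by
  have e1 := congrArg Cm.u h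
  have e2 := congrArg Cm.w h
  have e3 := congrArg Cm.z h
  have := g.det
  simp [cm] at e1 e2 e3
  have ha : g.a = 1 := by linear_combination e1
  rw [ha, e2] at this e3
  exact ⟨mul_left_cancel₀ h2 (by linear_combination -e3), ha, e2, by linear_combination this⟩

theorem Bs_conj {g : Cm F} (hg : g ∈ Bs F) : ∃ s l : F, l ≠ 0 ∧ ∀ v : F × F × F,
    g * cm v.1 v.2.1 v.2.2 * g⁻¹ = cm (bor s l v).1 (bor s l v).2.1 (bor s l v).2.2 := by
  obtain ⟨l, k, hk, rfl⟩ := mem_Bs'.1 hg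
  obtain ⟨u, a, b, c, rfl⟩ := mem_Ps'.1 hk
  refine ⟨u * l, l, l.ne_zero, fun v => ?_⟩
  calc _ = cm a b c * (cy u * (ch l * cm v.1 v.2.1 v.2.2 * (ch l)⁻¹) * (cy u)⁻¹) * (cm a b c)⁻¹ := by
        group
    _ = _ := by
        rw [ch_conj, cy_conj, cm_inv, cm_mul, cm_mul]
        simp only [bor]
        congr 1 <;> ring

theorem exists_bor (s : F) {l : F} (hl : l ≠ 0) : ∃ g ∈ Bs F, ∀ v : F × F × F,
    g * cm v.1 v.2.1 v.2.2 * g⁻¹ = cm (bor s l v).1 (bor s l v).2.1 (bor s l v).2.2 := by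
  refine ⟨cy (s / l) * ch (Units.mk0 l hl), (Bs F).mul_mem (Ps_le_Bs (cy_mem _)) (ch_mem _),
    fun v => ?_⟩
  calc _ = cy (s / l) * (ch (Units.mk0 l hl) * cm v.1 v.2.1 v.2.2 * (ch (Units.mk0 l hl))⁻¹) *
        (cy (s / l))⁻¹ := by group
    _ = _ := by
        rw [ch_conj, cy_conj]
        simp only [bor, Units.val_mk0]
        congr 1 <;> field_simp

theorem norm_Ms : normalizer (Ms F : Set (Cm F)) = Bs F := by
  ext g
  constructor
  · intro h
    have := ((mem_normalizer_iff.1 h) (cm 0 1 0)).1 (cm_mem ..)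
    have e := this.1
    have := g.det
    simp [cm] at e
    show g.c = 0
    linear_combination e + g.w * this
  · intro hg
    have : ∀ g ∈ Bs F, ∀ x ∈ Ms F, g * x * g⁻¹ ∈ Ms F := fun g hg x hx => by
      obtain ⟨a, b, c, rfl⟩ := mem_Ms'.1 hx
      obtain ⟨s, l, -, e⟩ := Bs_conj hg
      rw [e (a, b, c)]
      exact cm_mem ..
    refine mem_normalizer_iff.2 fun x => ⟨this g hg x, fun h => ?_⟩
    simpa [mul_assoc] using this _ ((Bs F).inv_mem hg) _ h

theorem Bs_pow {g : Cm F} (hg : g ∈ Bs F) (n : ℕ) : (g ^ n).a = g.a ^ n := by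
  induction n with
  | zero => simp
  | succ n ih => rw [pow_succ, mul_a, ih, show g.c = 0 from hg]; ring

theorem mem_Ps_of_pow {p : ℕ} [Fact p.Prime] [CharP F p] {g : Cm F} (hg : g ∈ Bs F) {k : ℕ}
    (h : g ^ p ^ k = 1) : g ∈ Ps F := by
  have e := Bs_pow hg (p ^ k)
  rw [h, one_a] at e
  have : (g.a - 1) ^ p ^ k = 0 := by rw [sub_pow_char_pow, ← e]; simp
  have ha : g.a = 1 := by linear_combination pow_eq_zero_iff (by
    exact pow_ne_zero _ (Fact.out : p.Prime).ne_zero) |>.1 this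
  have hd := g.det
  rw [ha, show g.c = 0 from hg] at hd
  exact ⟨ha, hg, by linear_combination hd⟩

theorem comm_of_not_mem (h2 : (2 : F) ≠ 0) {y g : Cm F} (hy : y ∈ Ps F) (hy' : y ∉ Ms F)
    (hg : g ∈ Ms F) (h : g * y = y * g) : g ∈ Zs F := by
  obtain ⟨a, b, c, rfl⟩ := mem_Ms'.1 hg
  have hw : y.w ≠ 0 := fun e => hy' ⟨e, hy⟩
  obtain ⟨h3, h4, h5⟩ := hy
  have e1 := congrArg Cm.u h
  have e2 := congrArg Cm.z h
  simp [cm, h3, h4, h5] at e1 e2
  have hc : c = 0 := mul_right_cancel₀ hw (by linear_combination e1)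
  have hb : b = 0 := mul_right_cancel₀ (mul_ne_zero h2 hw) (by linear_combination e2)
  rw [hb, hc]
  exact cz_mem a

theorem abelian_eq_Ms [Finite F] (h2 : (2 : F) ≠ 0) {A : Subgroup (Cm F)} (hA : A ≤ Ps F)
    (hc : ∀ x ∈ A, ∀ y ∈ A, x * y = y * x) (hcard : Nat.card A = Nat.card F ^ 3) : A = Ms F := by
  refine eq_of_le_of_card_ge (fun y hy => ?_) (by rw [hcard, card_Ms])
  by_contra hy'
  have hq := H10.two_le_card_field (F := F)
  let ω : A →* Multiplicative F :=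
    { toFun := fun x => Multiplicative.ofAdd x.1.w
      map_one' := rfl
      map_mul' := fun x x' => by
        rw [← ofAdd_add]
        congr 1
        simp [(hA x.2).2.1, (hA x.2).2.2] }
  have h1 : Nat.card ω.ker ≤ Nat.card F := by
    rw [← card_Zs (F := F)]
    refine Nat.card_le_card_of_injective (fun x => ⟨x.1.1, comm_of_not_mem h2 (hA hy) hy'
      ⟨x.2, hA x.1.2⟩ (hc _ x.1.2 _ hy)⟩) fun x x' e => ?_
    exact Subtype.ext (Subtype.ext (congrArg (fun y : Zs F => y.1) e))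
  have h3 : ω.ker.index ≤ Nat.card F := by
    rw [index_ker]
    exact Nat.card_le_card_of_injective _ Subtype.val_injective
  have h4 := ω.ker.card_mul_index
  have h5 := Nat.mul_le_mul h1 h3
  rw [h4, hcard] at h5
  nlinarith [Nat.mul_le_mul hq (le_refl (Nat.card F * Nat.card F))]

theorem index_Ps [Finite F] : (Ps F).index = (Nat.card F - 1) * (Nat.card F + 1) := by
  have h := (Ps F).card_mul_index
  rw [card_Ps, card_Cm, H10.card_SL_two] at h
  have hq := H10.two_le_card_field (F := F)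
  apply Nat.eq_of_mul_eq_mul_left (show 0 < Nat.card F ^ 4 by positivity)
  rw [h]; ring

theorem dvd_card [Finite F] (p : ℕ) [Fact p.Prime] [CharP F p] : p ∣ Nat.card F := by
  have := Fintype.ofFinite F
  obtain ⟨k, -, hk⟩ := FiniteField.card F p
  rw [Nat.card_eq_fintype_card, hk]
  exact dvd_pow_self p k.ne_zero

theorem not_dvd_index_Ps [Finite F] {p : ℕ} [hp : Fact p.Prime] [CharP F p] :
    ¬ p ∣ (Ps F).index := by
  rw [index_Ps]
  intro h
  have hq := H10.two_le_card_field (F := F)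
  have hd := dvd_card (F := F) p
  rcases (Nat.Prime.dvd_mul hp.out).1 h with h | h
  · exact not_dvd_pow_sub_one hd (by omega) 0 (by simpa using h)
  · exact hp.out.one_lt.ne' (Nat.dvd_one.1 ((Nat.dvd_add_right hd).1 h))

variable (F) in
/-- The standard Sylow subgroup. -/
noncomputable def syl [Finite F] (p : ℕ) [Fact p.Prime] [CharP F p] : Sylow p (Cm F) :=
  isPGroup_Ps.toSylow not_dvd_index_Ps

theorem coe_syl [Finite F] (p : ℕ) [Fact p.Prime] [CharP F p] :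
    (syl F p : Subgroup (Cm F)) = Ps F := rfl

end Cm

/-- The elements of the large abelian subgroup. -/
def mu {G : Type*} [Group G] (φ : Cm F →* G) (v : F × F × F) : G := φ (cm v.1 v.2.1 v.2.2)

/-- The image of the centre. -/
def Zg {G : Type*} [Group G] (φ : Cm F →* G) : Subgroup G := (Zs F).map φ
/-- The image of the large abelian subgroup. -/
def Mg {G : Type*} [Group G] (φ : Cm F →* G) : Subgroup G := (Ms F).map φ
/-- The image of the Sylow subgroup. -/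
def Pg {G : Type*} [Group G] (φ : Cm F →* G) : Subgroup G := (Ps F).map φ
/-- The image of the Heisenberg group. -/
def Qg {G : Type*} [Group G] (φ : Cm F →* G) : Subgroup G := (Qs F).map φ
/-- The normaliser of the large abelian subgroup. -/
def Ng {G : Type*} [Group G] (φ : Cm F →* G) : Subgroup G := normalizer (Mg φ : Set G)

namespace Hy

variable {G : Type*} [Group G] {φ : Cm F →* G} (h : Hy φ)
include h

theorem mem_range {g : G} {a : F} (ha : a ≠ 0) (e : g * φ (cz a) = φ (cz a) * g) : g ∈ φ.range := by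
  rw [← h.cent a ha, mem_centralizer_singleton_iff]; exact e

theorem conj (g : G) : Hy ((MulAut.conj g).toMonoidHom.comp φ) := by
  refine ⟨(MulAut.conj g).injective.comp h.inj, fun a ha => ?_⟩
  rw [MonoidHom.range_comp, ← h.cent a ha]
  ext x
  rw [show map (MulAut.conj g).toMonoidHom (centralizer {φ (cz a)}) = cj g _ from rfl, mem_cj,
    mem_centralizer_singleton_iff, mem_centralizer_singleton_iff]
  show x * (g * φ (cz a) * g⁻¹) = g * φ (cz a) * g⁻¹ * x ↔ _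
  constructor
  · intro e
    calc _ = g⁻¹ * (x * (g * φ (cz a) * g⁻¹)) * g := by group
      _ = _ := by rw [e]; group
  · intro e
    calc _ = g * (g⁻¹ * x * g * φ (cz a)) * g⁻¹ := by group
      _ = _ := by rw [e]; group

theorem mem_map {A : Subgroup (Cm F)} {k : Cm F} : φ k ∈ A.map φ ↔ k ∈ A :=
  mem_map_iff_mem h.inj

theorem le_P [Finite F] {p : ℕ} [Fact p.Prime] [CharP F p] {S : Subgroup G} (hS : IsPGroup p S)
    (hP : Pg φ ≤ S) (hC : S ≤ φ.range) : S = Pg φ := by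
  have := (syl F p).3 (hS.comap_of_injective φ h.inj) (map_le_iff_le_comap.1 hP)
  rw [coe_syl] at this
  rw [Pg, ← this, map_comap_eq_self hC]

theorem sylow [Finite F] [Finite G] {p : ℕ} [Fact p.Prime] [CharP F p] (h2 : (2 : F) ≠ 0) :
    ∃ P : Sylow p G, (P : Subgroup G) = Pg φ := by
  obtain ⟨S, hS⟩ := ((isPGroup_Ps (F := F) (p := p)).map φ).exists_le_sylow
  refine ⟨S, h.le_P S.2 hS ?_⟩
  have hz : φ (cz 1) ∈ (S : Subgroup G) := hS ⟨_, Ms_le_Ps (Zs_le_Ms (cz_mem 1)), rfl⟩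
  have : Nontrivial (S : Subgroup G) := ⟨⟨⟨_, hz⟩, 1, fun e => one_ne_zero (cz_inj (h.inj
    ((congrArg Subtype.val e).trans (map_one φ).symm)))⟩⟩
  have := S.2.center_nontrivial
  obtain ⟨⟨s, hs⟩, hs1⟩ := exists_ne (1 : center (S : Subgroup G))
  have hc : ∀ x ∈ (S : Subgroup G), x * s = s * x := fun x hx =>
    congrArg Subtype.val (mem_center_iff.1 hs ⟨x, hx⟩)
  have e := h.le_P (S := S ⊓ φ.range) (S.2.to_le inf_le_left) (le_inf hS (map_le_range _ _))
    inf_le_right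
  have hs2 : (s : G) ∈ Pg φ := e ▸ ⟨s.2, h.mem_range one_ne_zero (hc _ hz).symm⟩
  obtain ⟨k, hk, hks⟩ := hs2
  obtain ⟨a, rfl⟩ := mem_Zs'.1 (center_Ps h2 hk fun k' hk' => h.inj (by
    rw [map_mul, map_mul, hks]; exact hc _ (hS ⟨_, hk', rfl⟩)))
  have ha : a ≠ 0 := by
    rintro rfl
    exact hs1 (Subtype.ext (Subtype.ext (hks.symm.trans (map_one φ))))
  exact fun x hx => h.mem_range ha (by rw [hks]; exact hc x hx)

theorem ab_eq [Finite F] (h2 : (2 : F) ≠ 0) {A : Subgroup G} (hA : A ≤ Pg φ)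
    (hc : ∀ x ∈ A, ∀ y ∈ A, x * y = y * x) (hcard : Nat.card A = Nat.card F ^ 3) :
    A = Mg φ := by
  have hr : A ≤ φ.range := hA.trans (map_le_range _ _)
  have := abelian_eq_Ms h2 (A := A.comap φ) (fun x hx => h.mem_map.1 (hA hx))
    (fun x hx y hy => h.inj (by rw [map_mul, map_mul]; exact hc _ hx _ hy))
    (by rw [← hcard, ← card_map_of_injective h.inj, map_comap_eq_self hr])
  rw [Mg, ← this, map_comap_eq_self hr]

omit h in
theorem M_comm : ∀ x ∈ Mg φ, ∀ y ∈ Mg φ, x * y = y * x := by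
  rintro _ ⟨x, hx, rfl⟩ _ ⟨y, hy, rfl⟩
  obtain ⟨a, b, c, rfl⟩ := mem_Ms'.1 hx
  obtain ⟨a', b', c', rfl⟩ := mem_Ms'.1 hy
  rw [← map_mul, ← map_mul, cm_mul, cm_mul, add_comm a, add_comm b, add_comm c]

omit h in
theorem cj_comm {A : Subgroup G} (hc : ∀ x ∈ A, ∀ y ∈ A, x * y = y * x) (g : G) :
    ∀ x ∈ cj g A, ∀ y ∈ cj g A, x * y = y * x := by
  rintro _ ⟨x, hx, rfl⟩ _ ⟨y, hy, rfl⟩
  rw [← map_mul, ← map_mul, hc x hx y hy]

theorem card_M : Nat.card (Mg φ) = Nat.card F ^ 3 := by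
  rw [Mg, card_map_of_injective h.inj, card_Ms]

omit h in
theorem pM [Finite F] {p : ℕ} [Fact p.Prime] [CharP F p] : IsPGroup p (Mg φ) :=
  (isPGroup_Ps.to_le Ms_le_Ps).map φ

/-- Conjugates of `M` in a common `p`-subgroup coincide. -/
theorem weak [Finite F] [Finite G] {p : ℕ} [Fact p.Prime] [CharP F p] (h2 : (2 : F) ≠ 0)
    {S : Subgroup G} (hS : IsPGroup p S) {g : G} (h1 : cj g (Mg φ) ≤ S)
    (h3 : Mg φ ≤ S) : g ∈ Ng φ := by
  obtain ⟨P, hP⟩ := h.sylow (p := p) h2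
  obtain ⟨x, hx⟩ := exists_conj_le_sylow hS P
  rw [hP] at hx
  have e1 := h.ab_eq h2 ((cj_mono x h1).trans hx) (cj_comm (cj_comm M_comm g) x)
    (by rw [card_cj, card_cj, h.card_M])
  have e2 := h.ab_eq h2 ((cj_mono x h3).trans hx) (cj_comm M_comm x) (by rw [card_cj, h.card_M])
  rw [Ng, ← cj_eq_iff]
  have := congrArg (cj x⁻¹) (e1.trans e2.symm)
  rwa [cj_cj x⁻¹ x, cj_cj x⁻¹ x, inv_mul_cancel, cj_one, cj_one] at this

/-- The normaliser of `M` controls fusion. -/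
theorem ctrl [Finite F] [Finite G] {p : ℕ} [Fact p.Prime] [CharP F p] (h2 : (2 : F) ≠ 0)
    {D : Subgroup G} {g : G} (h1 : cj g (Mg φ) ≤ D) (h3 : Mg φ ≤ D) :
    ∃ d ∈ D, d * g ∈ Ng φ := by
  obtain ⟨d, hd, S, hS, -, e1, e2⟩ := exists_conj_le (isPGroup_cj g (pM (p := p))) pM h1 h3
  rw [cj_cj] at e1
  exact ⟨d, hd, h.weak h2 hS e1 e2⟩

theorem ctrl_elt [Finite F] [Finite G] {p : ℕ} [Fact p.Prime] [CharP F p] (h2 : (2 : F) ≠ 0)
    {x g : G} (hx : x ∈ Mg φ) (hy : g * x * g⁻¹ ∈ Mg φ) :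
    ∃ n ∈ Ng φ, n * x * n⁻¹ = g * x * g⁻¹ := by
  obtain ⟨d, hd, e⟩ := h.ctrl (p := p) h2 (D := centralizer {g * x * g⁻¹}) (g := g)
    (fun y hy => mem_centralizer_singleton_iff.2 (cj_comm M_comm g _ hy _ (conj_mem_cj hx)))
    (fun y hy' => mem_centralizer_singleton_iff.2 (M_comm _ hy' _ hy))
  refine ⟨_, e, ?_⟩
  rw [mem_centralizer_singleton_iff] at hd
  calc _ = d * (g * x * g⁻¹) * d⁻¹ := by group
    _ = _ := by rw [hd]; group

theorem mu_inj : Function.Injective (mu φ) := fun _ _ e => by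
  obtain ⟨h1, h2, h3⟩ := cm_inj (h.inj e)
  exact Prod.ext h1 (Prod.ext h2 h3)

omit h in
theorem mu_add (v w : F × F × F) : mu φ (v + w) = mu φ v * mu φ w := by
  simp [mu, ← map_mul, cm_mul]

omit h in
theorem mu_mem (v : F × F × F) : mu φ v ∈ Mg φ := ⟨_, cm_mem .., rfl⟩

omit h in
theorem exists_mu {x : G} (hx : x ∈ Mg φ) : ∃ v, mu φ v = x := by
  obtain ⟨k, hk, rfl⟩ := hx
  obtain ⟨a, b, c, rfl⟩ := mem_Ms'.1 hk
  exact ⟨(a, b, c), rfl⟩

omit h in
theorem exists_act (n : Ng φ) (v : F × F × F) :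
    ∃ w, mu φ w = n * mu φ v * (n : G)⁻¹ :=
  exists_mu ((mem_normalizer_iff.1 n.2 _).1 (mu_mem v))

/-- The action of the normaliser of `M` on `M`. -/
noncomputable def rho : Ng φ →* Perm (F × F × F) :=
  MonoidHom.toHomPerm
    { toFun := fun n v => (exists_act n v).choose
      map_one' := funext fun v => h.mu_inj (by rw [(exists_act 1 v).choose_spec]; simp; rfl)
      map_mul' := fun m n => funext fun v => h.mu_inj (by
        rw [(exists_act (m * n) v).choose_spec]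
        show _ = mu φ (exists_act m _).choose
        rw [(exists_act m _).choose_spec, (exists_act n v).choose_spec]
        simp [mul_assoc]) }

theorem mu_rho (n : Ng φ) (v : F × F × F) :
    mu φ (h.rho n v) = n * mu φ v * (n : G)⁻¹ := (exists_act n v).choose_spec

theorem rho_eq {n : Ng φ} {v w : F × F × F} :
    h.rho n v = w ↔ (n : G) * mu φ v * (n : G)⁻¹ = mu φ w := by
  rw [← h.mu_rho, h.mu_inj.eq_iff]

theorem mem_NM {k : Cm F} : φ k ∈ Ng φ ↔ k ∈ Bs F := by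
  rw [← norm_Ms]
  constructor
  · intro hk
    refine mem_normalizer_iff.2 fun x => ?_
    rw [← h.mem_map, ← Mg, mem_normalizer_iff.1 hk, ← map_inv, ← map_mul, ← map_mul, Mg, h.mem_map]
  · intro hk
    exact le_normalizer_map φ ⟨k, hk, rfl⟩

theorem ker_rho (h2 : (2 : F) ≠ 0) :
    h.rho.ker = (Mg φ).subgroupOf (Ng φ) := by
  ext n
  rw [MonoidHom.mem_ker, mem_subgroupOf]
  constructor
  · intro e
    have e1 : ∀ v, (n : G) * mu φ v = mu φ v * n := fun v => by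
      have := h.mu_rho n v
      rw [e, Perm.one_apply] at this
      exact mul_inv_eq_iff_eq_mul.1 this.symm
    obtain ⟨k, hk⟩ := h.mem_range one_ne_zero (e1 (1, 0, 0))
    refine ⟨k, cent_Ms h2 (h.inj ?_), hk⟩
    rw [map_mul, map_mul, hk]
    exact e1 (0, 1, 0)
  · intro hn
    refine Perm.ext fun v => h.rho_eq.2 ?_
    rw [M_comm _ hn _ (mu_mem v)]
    simp

theorem rho_add (n : Ng φ) (v w : F × F × F) :
    h.rho n (v + w) = h.rho n v + h.rho n w :=
  h.mu_inj (by rw [mu_add, h.mu_rho, h.mu_rho, h.mu_rho, mu_add]; simp [mul_assoc])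

theorem gam (nsq : ¬ IsSquare (-1 : F))
    (hc : ∃ a b : F, a ≠ 0 ∧ b ≠ 0 ∧ ∀ g : G, g * φ (cz a) * g⁻¹ ≠ φ (cz b)) :
    Gam h.rho.range := by
  refine ⟨nsq, ?_, fun s l hl => ?_, ?_, ?_⟩
  · rintro _ ⟨n, rfl⟩
    exact h.rho_add n
  · obtain ⟨g, hg, e⟩ := exists_bor s hl
    refine ⟨_, ⟨⟨φ g, h.mem_NM.2 hg⟩, rfl⟩, fun v => h.rho_eq.2 ?_⟩
    show φ g * φ _ * (φ g)⁻¹ = φ _
    rw [← e, map_mul, map_mul, map_inv]
  · rintro _ ⟨n, rfl⟩ a ha e
    rw [h.rho_eq] at e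
    obtain ⟨k, hk⟩ := h.mem_range (g := n) ha (mul_inv_eq_iff_eq_mul.1 e)
    obtain ⟨s, l, hl, e'⟩ := Bs_conj (h.mem_NM.1 (hk ▸ n.2))
    refine ⟨s, l, hl, fun v => h.rho_eq.2 ?_⟩
    show (n : G) * φ _ * (n : G)⁻¹ = φ _
    rw [← hk, ← e', map_mul, map_mul, map_inv]
  · obtain ⟨a, b, ha, hb, hc⟩ := hc
    refine ⟨a, b, ha, hb, ?_⟩
    rintro _ ⟨n, rfl⟩ e
    exact hc n (h.rho_eq.1 e)

/-- An element normalising `M` and `Z` normalises `P`. -/
theorem norm_P [Finite F] [Finite G] {p : ℕ} [Fact p.Prime] [CharP F p] {n : G}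
    (hn : n ∈ Ng φ) {a b : F} (ha : a ≠ 0)
    (e : n * φ (cz b) * n⁻¹ = φ (cz a)) : n ∈ normalizer (Pg φ : Set G) := by
  refine mem_normalizer_of_le ?_
  rintro _ ⟨k, hk, rfl⟩
  obtain ⟨k', hk'⟩ := h.mem_range (g := n * φ k * n⁻¹) ha (by
    rw [← e]
    calc _ = n * φ (k * cz b) * n⁻¹ := by rw [map_mul]; group
      _ = _ := by rw [cz_comm, map_mul]; group)
  have h1 : k' ∈ Bs F := h.mem_NM.1 (hk' ▸ mul_mem (mul_mem hn (h.mem_NM.2 (Ps_le_Bs hk)))
    (inv_mem hn))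
  obtain ⟨j, hj⟩ := isPGroup_Ps (p := p) ⟨k, hk⟩
  have hj' : k ^ p ^ j = 1 := congrArg Subtype.val hj
  refine ⟨k', mem_Ps_of_pow h1 (k := j) (h.inj ?_), hk'⟩
  rw [map_pow, hk', conj_pow, ← map_pow, hj']
  simp

theorem central_P [Finite F] [Finite G] {p : ℕ} [Fact p.Prime] [CharP F p] (h2 : (2 : F) ≠ 0)
    (Q : Sylow p G) {u : G} (hu : u ∈ (Q : Subgroup G)) (hu1 : u ≠ 1)
    (hc : ∀ y ∈ (Q : Subgroup G), y * u = u * y) :
    ∃ (g : G) (a : F), a ≠ 0 ∧ g * u * g⁻¹ = φ (cz a) := by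
  obtain ⟨P, hP⟩ := h.sylow (p := p) h2
  obtain ⟨g, hg⟩ := MulAction.exists_smul_eq G Q P
  have hg' : cj g Q = Pg φ := by rw [← cj_sylow, hg, hP]
  obtain ⟨k, hk, e⟩ := hg' ▸ conj_mem_cj (g := g) hu
  obtain ⟨a, rfl⟩ := mem_Zs'.1 (center_Ps h2 hk fun k' hk' => h.inj (by
    have : φ k' ∈ cj g Q := hg' ▸ ⟨_, hk', rfl⟩
    have := hc _ (mem_cj.1 this)
    rw [map_mul, map_mul, e]
    calc _ = g * (g⁻¹ * φ k' * g * u) * g⁻¹ := by group
      _ = _ := by rw [this]; group))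
  refine ⟨g, a, ?_, e.symm⟩
  rintro rfl
  rw [cz_zero, map_one] at e
  exact hu1 (by simpa using e.symm)

end Hy

end H62.Hay
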