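import Mathlib
import Cfsg.Agent.Lib.Hay.Lin

/-! Identification of the group acting on binary quadratic forms with `GL₂/±1`. -/

set_option autoImplicit false

namespace H62.Hay

open Equiv Matrix
open scoped MatrixGroups

variable {F : Type*} [Field F]

/-- The action of a matrix on binary quadratic forms. -/
def th (g : Matrix (Fin 2) (Fin 2) F) (v : F × F × F) : F × F × F :=
  (g 0 0 ^ 2 * v.1 + 2 * g 0 0 * g 0 1 * v.2.1 + g 0 1 ^ 2 * v.2.2,
    g 0 0 * g 1 0 * v.1 + (g 0 0 * g 1 1 + g 0 1 * g 1 0) * v.2.1 + g 0 1 * g 1 1 * v.2.2,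
    g 1 0 ^ 2 * v.1 + 2 * g 1 0 * g 1 1 * v.2.1 + g 1 1 ^ 2 * v.2.2)

theorem th_mul (g h : Matrix (Fin 2) (Fin 2) F) (v : F × F × F) :
    th (g * h) v = th g (th h v) := by
  ext <;> simp [th, Matrix.mul_apply, Fin.sum_univ_two] <;> ring

theorem th_one (v : F × F × F) : th 1 v = v := by
  ext <;> simp [th]

theorem th_bor (s l : F) (v : F × F × F) : th !![1, s; 0, l] v = bor s l v := by
  ext <;> simp [th, bor]

/-- The representation of `GL₂` on binary quadratic forms. -/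
def theta : GL (Fin 2) F →* Perm (F × F × F) :=
  MonoidHom.toHomPerm
    { toFun := fun g => th g.1
      map_one' := funext th_one
      map_mul' := fun g h => funext (th_mul g.1 h.1) }

theorem theta_apply (g : GL (Fin 2) F) (v : F × F × F) : theta g v = th g.1 v := rfl

/-- A swapping element in good position. -/
structure Sw (Γ : Subgroup (Perm (F × F × F))) (n : Perm (F × F × F)) : Prop where
  mem : n ∈ Γ
  cT : ∀ v, n (bor 0 (-1) v) = bor 0 (-1) (n v)
  sw : ∀ a, ∃ c, n (a, 0, 0) = (0, 0, c)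

namespace Gam

variable {Γ : Subgroup (Perm (F × F × F))} (h : Gam Γ) {n : Perm (F × F × F)} (hn : Sw Γ n)
include h hn

theorem sw_ne (b : F) : n (1, 0, 0) ≠ (b, 0, 0) := fun e => by
  obtain ⟨c, hc⟩ := hn.sw 1
  rw [e] at hc
  simp only [Prod.mk.injEq] at hc
  exact h.ne_zero hn.mem (v := (1, 0, 0)) (by simp) (by rw [e, hc.1]; rfl)

theorem sw_surj [Finite F] (c : F) : ∃ a, n (a, 0, 0) = (0, 0, c) := by
  obtain ⟨a, ha⟩ := h.third_surj hn.mem (h.sw_ne hn) c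
  obtain ⟨c', hc⟩ := hn.sw a
  rw [hc] at ha
  exact ⟨a, by rw [hc, ← ha]⟩

/-- The conjugates of the line. -/
theorem orbit [Finite F] {γ : Perm (F × F × F)} (hγ : γ ∈ Γ) (a : F) :
    (∃ b, γ (a, 0, 0) = (b, 0, 0)) ∨ ∃ u c, γ (a, 0, 0) = (u ^ 2 * c, u * c, c) := by
  by_cases e : ∃ b, γ (a, 0, 0) = (b, 0, 0)
  · exact Or.inl e
  push Not at e
  obtain ⟨s, hs⟩ := h.graph hγ e
  obtain ⟨Y, hY, hY'⟩ := h.hb s 1 one_ne_zero
  have ha : a ≠ 0 := by
    rintro rfl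
    exact e 0 (h.zero hγ)
  have hc := h.third hγ e ha
  obtain ⟨x, y, c, hx⟩ : ∃ x y z, γ (a, 0, 0) = (x, y, z) := ⟨_, _, _, rfl⟩
  obtain ⟨b, hb⟩ := h.sw_surj hn c
  have h1 := hs a
  rw [hx] at hc h1
  simp [bor] at h1 hc
  have := h.uniq (Γ.mul_mem hY hγ) hn.mem (fun a => by rw [Perm.mul_apply, hY', hs])
    (fun a => by obtain ⟨c, hc⟩ := hn.sw a; rw [hc]) hc (a := a) (x := x + 2 * s * y + s ^ 2 * c)
    (by rw [Perm.mul_apply, hY', hx]; simp [bor, h1]) hb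
  refine Or.inr ⟨-s, c, ?_⟩
  rw [hx]
  have hy : y = -s * c := by linear_combination h1
  ext
  · simp only; rw [hy] at this; linear_combination this
  · exact hy
  · rfl

theorem sw_back [Finite F] (c : F) : ∃ a, n (0, 0, c) = (a, 0, 0) := by
  obtain ⟨a, ha⟩ := h.sw_surj hn c
  have e := hn.cT (0, 0, c)
  rcases h.orbit hn (Γ.mul_mem hn.mem hn.mem) a with ⟨b, hb⟩ | ⟨u, c', hb⟩
  · exact ⟨b, by rw [← ha]; exact hb⟩
  · rw [Perm.mul_apply, ha] at hb
    simp [bor, hb] at e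
    have e1 : u * c' = 0 := mul_left_cancel₀ h.two (by linear_combination e)
    rw [e1, show u ^ 2 * c' = 0 by linear_combination u * e1] at hb
    obtain ⟨a', ha'⟩ := h.sw_surj hn c'
    have := n.injective (hb.trans ha'.symm)
    simp only [Prod.mk.injEq] at this
    exact ⟨0, by rw [this.2.2]; exact h.zero hn.mem⟩

theorem sw_split (a b c : F) : n (a, b, c) = n (a, 0, 0) + n (0, b, 0) + n (0, 0, c) := by
  rw [← h.add n hn.mem, ← h.add n hn.mem]; simp

theorem semi [Finite F] {l : F} (hl : l ≠ 0) : ∃ s, s ≠ 0 ∧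
    (∀ b, (n (0, l * b, 0)).2.1 = s * (n (0, b, 0)).2.1) ∧
    (∀ c, (n (0, 0, l ^ 2 * c)).1 = s ^ 2 * (n (0, 0, c)).1) ∧
    ∃ γ ∈ Γ, ∀ v, γ v = th !![s, 0; 0, 1] v := by
  obtain ⟨D, hD, hD'⟩ := h.hb 0 l hl
  obtain ⟨Y, hY, hY'⟩ := h.hb 1 1 one_ne_zero
  have hE : n * D * n⁻¹ ∈ Γ := Γ.mul_mem (Γ.mul_mem hn.mem hD) (Γ.inv_mem hn.mem)
  set E := n * D * n⁻¹ with hEd
  have En : ∀ v, E (n v) = n (bor 0 l v) := fun v => by simp [hEd, hD']
  have E3 : ∀ c, E (0, 0, c) = (0, 0, c) := fun c => by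
    obtain ⟨a, ha⟩ := h.sw_surj hn c
    rw [← ha, En]; simp [bor]
  have s2 : ∀ b, ∃ b', n (0, b', 0) = (0, b, 0) := fun b => by
    obtain ⟨b', hb⟩ := h.mid (Γ.inv_mem hn.mem) (inv_T hn.cT) b
    exact ⟨b', by rw [← hb]; simp⟩
  have s1 : ∀ a, ∃ c, n (0, 0, c) = (a, 0, 0) := fun a => by
    have : Function.Injective fun c => (n (0, 0, c)).1 := fun c c' e => by
      obtain ⟨x, hx⟩ := h.sw_back hn c
      obtain ⟨x', hx'⟩ := h.sw_back hn c'
      simp only [hx, hx'] at e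
      have := n.injective (hx.trans (e ▸ hx'.symm))
      simpa using this
    obtain ⟨c, hc⟩ := Finite.surjective_of_injective this a
    obtain ⟨x, hx⟩ := h.sw_back hn c
    simp only [hx] at hc
    exact ⟨c, by rw [hx, hc]⟩
  have E2 : ∀ b, ∃ b', E (0, b, 0) = (0, b', 0) := fun b => by
    obtain ⟨b', hb⟩ := s2 b
    obtain ⟨b'', hb'⟩ := h.mid hn.mem hn.cT (l * b')
    exact ⟨b'', by rw [← hb, En, ← hb']; simp [bor]⟩
  have E1 : ∀ a, ∃ a', E (a, 0, 0) = (a', 0, 0) := fun a => by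
    obtain ⟨c, hc⟩ := s1 a
    obtain ⟨a', ha⟩ := h.sw_back hn (l ^ 2 * c)
    exact ⟨a', by rw [← hc, En, ← ha]; simp [bor]⟩
  have Es : ∀ a b c, E (a, b, c) = E (a, 0, 0) + E (0, b, 0) + E (0, 0, c) := fun a b c => by
    rw [← h.add E hE, ← h.add E hE]; simp
  obtain ⟨a1, ha1⟩ := E1 1
  have a10 : a1 ≠ 0 := fun e => h.ne_zero hE (v := (1, 0, 0)) (by simp) (by rw [ha1, e]; rfl)
  obtain ⟨s, l', -, hs⟩ := h.st (E * Y * E⁻¹) (Γ.mul_mem (Γ.mul_mem hE hY) (Γ.inv_mem hE)) a1 a10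
    (by rw [← ha1]; simp [hY', bor])
  have hs' : ∀ v, E (bor 1 1 v) = bor s l' (E v) := fun v => by rw [← hs, ← hY']; simp
  have l1 : l' = 1 := by
    have := hs' (0, 1, 0)
    obtain ⟨b, hb⟩ := E2 1
    obtain ⟨a, ha⟩ := E1 2
    have b0 : b ≠ 0 := fun e => h.ne_zero hE (v := (0, 1, 0)) (by simp) (by rw [hb, e]; rfl)
    simp [bor] at this
    rw [Es, ha, hb, E3] at this
    simp at this
    exact mul_right_cancel₀ b0 (by linear_combination -this.2)
  subst l1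
  have key : ∀ c, E (c, 0, 0) = (s ^ 2 * c, 0, 0) ∧ E (0, c, 0) = (0, s * c, 0) := fun c => by
    have := hs' (0, 0, c)
    obtain ⟨b, hb⟩ := E2 c
    obtain ⟨a, ha⟩ := E1 c
    simp [bor] at this
    rw [Es, ha, hb, E3] at this
    simp at this
    rw [ha, hb, this.1, this.2]
    exact ⟨rfl, rfl⟩
  refine ⟨s, fun e => ?_, fun b => ?_, fun c => ?_, E, hE, fun v => ?_⟩
  · have := (key 1).1
    rw [ha1, e] at this
    simp at this
    exact a10 this
  · obtain ⟨b', hb⟩ := h.mid hn.mem hn.cT b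
    have := En (0, b, 0)
    rw [hb, (key _).2] at this
    simp [bor] at this
    rw [← this, hb]
  · obtain ⟨a, ha⟩ := h.sw_back hn c
    have := En (0, 0, c)
    rw [ha, (key _).1] at this
    simp [bor] at this
    rw [← this, ha]
  · obtain ⟨a, b, c⟩ := v
    rw [Es, (key _).1, (key _).2, E3]
    simp [th]

theorem sig2_inj : Function.Injective fun b => (n (0, b, 0)).2.1 := fun b b' e => by
  obtain ⟨x, hx⟩ := h.mid hn.mem hn.cT b
  obtain ⟨x', hx'⟩ := h.mid hn.mem hn.cT b'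
  simp only [hx, hx'] at e
  have := n.injective (hx.trans (e ▸ hx'.symm))
  simpa using this

theorem sig2_ne {b : F} (hb : b ≠ 0) : (n (0, b, 0)).2.1 ≠ 0 := fun e =>
  hb (h.sig2_inj hn (e.trans (congrArg (fun v => v.2.1) (h.zero hn.mem)).symm))

theorem diag [Finite F] {r : F} (hr : r ≠ 0) : ∃ γ ∈ Γ, ∀ v, γ v = th !![r, 0; 0, 1] v := by
  obtain ⟨l, hl⟩ := Finite.surjective_of_injective (h.sig2_inj hn) (r * (n (0, 1, 0)).2.1)
  have l0 : l ≠ 0 := by
    rintro rfl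
    have := congrArg (fun v => v.2.1) (h.zero hn.mem)
    exact mul_ne_zero hr (h.sig2_ne hn one_ne_zero) (hl.symm.trans this)
  obtain ⟨s, -, h1, -, h2⟩ := h.semi hn l0
  have := h1 1
  rw [mul_one] at this
  rwa [show r = s from mul_right_cancel₀ (h.sig2_ne hn one_ne_zero) (hl.symm.trans this)]

theorem lin [Finite F] {γ : Perm (F × F × F)} (hγ : γ ∈ Γ) {b : F}
    (e : γ (1, 0, 0) = (b, 0, 0)) :
    ∃ r s l, r ≠ 0 ∧ l ≠ 0 ∧ ∀ v, γ v = th !![r, r * s; 0, l] v := by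
  have b0 : b ≠ 0 := fun e' => h.ne_zero hγ (v := (1, 0, 0)) (by simp) (by rw [e, e']; rfl)
  rcases sq_or_neg h.nsq b with ⟨r, hr⟩ | ⟨r, hr⟩
  · have r0 : r ≠ 0 := by rintro rfl; exact b0 (by rw [hr]; ring)
    obtain ⟨D, hD, hD'⟩ := h.diag hn r0
    obtain ⟨s, l, hl, hs⟩ := h.st (D⁻¹ * γ) (Γ.mul_mem (Γ.inv_mem hD) hγ) 1 one_ne_zero (by
      rw [Perm.mul_apply, e, Perm.inv_eq_iff_eq, hD', hr]; simp [th])
    refine ⟨r, s, l, r0, hl, fun v => ?_⟩
    have := hs v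
    rw [Perm.mul_apply, Perm.inv_eq_iff_eq, hD', ← th_bor, ← th_mul] at this
    rw [this]
    simp
  · exfalso
    have r0 : r ≠ 0 := by rintro rfl; exact b0 (by rw [hr]; ring)
    have all : ∀ a : F, a ≠ 0 → ∃ δ ∈ Γ, δ (1, 0, 0) = (a, 0, 0) := fun a ha => by
      rcases sq_or_neg h.nsq a with ⟨x, hx⟩ | ⟨x, hx⟩
      · have x0 : x ≠ 0 := by rintro rfl; exact ha (by rw [hx]; ring)
        obtain ⟨D, hD, hD'⟩ := h.diag hn x0
        exact ⟨D, hD, by rw [hD', hx]; simp [th]⟩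
      · have x0 : x ≠ 0 := by rintro rfl; exact ha (by rw [hx]; ring)
        obtain ⟨D, hD, hD'⟩ := h.diag hn (div_ne_zero x0 r0)
        refine ⟨D * γ, Γ.mul_mem hD hγ, ?_⟩
        rw [Perm.mul_apply, e, hD', hx, hr]
        simp [th]
        field_simp
    obtain ⟨a1, b1, ha1, hb1, hc⟩ := h.hc
    obtain ⟨δ1, h1, k1⟩ := all a1 ha1
    obtain ⟨δ2, h2, k2⟩ := all b1 hb1
    exact hc (δ2 * δ1⁻¹) (Γ.mul_mem h2 (Γ.inv_mem h1)) (by rw [← k1, ← k2]; simp)

theorem sig2_lin [Finite F] (l : F) : (n (0, l, 0)).2.1 = l * (n (0, 1, 0)).2.1 := by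
  have g0 := h.sig2_ne hn one_ne_zero
  let S : F → F := fun l => (n (0, l, 0)).2.1 / (n (0, 1, 0)).2.1
  have S0 : (n (0, 0, 0)).2.1 = 0 := congrArg (fun v => v.2.1) (h.zero hn.mem)
  have hS : ∀ l b, (n (0, l * b, 0)).2.1 = S l * (n (0, b, 0)).2.1 := fun l b => by
    by_cases hl : l = 0
    · simp [S, hl, S0]
    obtain ⟨s, -, h1, -⟩ := h.semi hn hl
    have := h1 1
    rw [mul_one] at this
    rw [h1, show S l = s by simp only [S]; rw [this]; field_simp]
  have Sadd : ∀ a b, S (a + b) = S a + S b := fun a b => by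
    have := h.add n hn.mem (0, a, 0) (0, b, 0)
    simp only [Prod.mk_add_mk, add_zero] at this
    simp only [S, this, Prod.snd_add, Prod.fst_add, add_div]
  have Smul : ∀ a b, S (a * b) = S a * S b := fun a b => by
    simp only [S]; rw [hS]; simp only [S]; ring
  have Sneg : ∀ a, S (-a) = -S a := fun a => by
    have := Sadd a (-a)
    rw [add_neg_cancel] at this
    have e : S 0 = 0 := by simp [S, S0]
    linear_combination e - this
  obtain ⟨c, hc⟩ := hn.sw 1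
  obtain ⟨a, ha⟩ := h.sw_back hn c
  obtain ⟨r, s, k, hr, hk, e⟩ := h.lin hn (Γ.mul_mem hn.mem hn.mem) (b := a)
    (by rw [Perm.mul_apply, hc, ha])
  have nn : ∀ b, (n (0, (n (0, b, 0)).2.1, 0)).2.1 = r * k * b := fun b => by
    obtain ⟨x, hx⟩ := h.mid hn.mem hn.cT b
    have := e (0, b, 0)
    rw [Perm.mul_apply, hx] at this
    rw [hx, this]
    simp [th]
  have SS : ∀ x, S (S x) = x := fun x => by
    have e1 := nn (x * 1)
    rw [hS, hS, nn] at e1
    exact mul_right_cancel₀ (mul_ne_zero hr hk) (by linear_combination e1)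
  have Sid : S l = l := by
    have e1 : S (l - S l) = -(l - S l) := by
      rw [sub_eq_add_neg, Sadd, Sneg, SS]; ring
    have e2 : ∀ x, S (x ^ 2) = -x ^ 2 → x = 0 := fun x hx => by
      rw [sq, Smul] at hx
      exact sq_add_sq h.nsq (a := S x) (by linear_combination hx)
    rcases sq_or_neg h.nsq (l - S l) with ⟨x, hx⟩ | ⟨x, hx⟩
    · rw [hx] at e1
      rw [e2 x e1] at hx
      linear_combination -hx
    · rw [hx, Sneg] at e1
      rw [e2 x (by linear_combination -e1)] at hx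
      linear_combination -hx
  have := hS l 1
  rwa [mul_one, Sid] at this

theorem sw_lin [Finite F] : ∃ β δ : F, β ≠ 0 ∧ δ ≠ 0 ∧ ∀ v, n v = th !![0, β; δ, 0] v := by
  have g0 := h.sig2_ne hn one_ne_zero
  set g2 := (n (0, 1, 0)).2.1 with hg2
  set g3 := (n (0, 0, 1)).1 with hg3
  have n2 : ∀ b, n (0, b, 0) = (0, b * g2, 0) := fun b => by
    obtain ⟨x, hx⟩ := h.mid hn.mem hn.cT b
    have := h.sig2_lin hn b
    rw [hx] at this ⊢
    rw [← this]
  have n3' : ∀ l, (n (0, 0, l ^ 2)).1 = l ^ 2 * g3 := fun l => by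
    by_cases hl : l = 0
    · have := congrArg (fun v => v.1) (h.zero hn.mem)
      simp [hl]; exact this
    obtain ⟨s, -, h1, h2, -⟩ := h.semi hn hl
    have e1 := h1 1
    have e2 := h2 1
    rw [mul_one] at e1 e2
    rw [n2] at e1
    rw [e2, show s = l from mul_right_cancel₀ g0 e1.symm]
  have n3 : ∀ c, n (0, 0, c) = (c * g3, 0, 0) := fun c => by
    obtain ⟨a, ha⟩ := h.sw_back hn c
    rcases sq_or_neg h.nsq c with ⟨x, hx⟩ | ⟨x, hx⟩
    · have := n3' x
      rw [← hx, ha] at this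
      rw [ha, ← this]
    · have := h.neg hn.mem (0, 0, x ^ 2)
      simp only [Prod.neg_mk, neg_zero] at this
      rw [← hx, ha] at this
      have e := congrArg (fun v => v.1) this
      simp only [Prod.fst_neg, n3'] at e
      rw [ha, e, hx]
      simp
  have g30 : g3 ≠ 0 := fun e => h.ne_zero hn.mem (v := (0, 0, 1)) (by simp)
    (by rw [n3, e]; simp)
  obtain ⟨g1, hc⟩ := hn.sw 1
  have g10 : g1 ≠ 0 := fun e => h.ne_zero hn.mem (v := (1, 0, 0)) (by simp) (by rw [hc, e]; rfl)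
  obtain ⟨r, s, k, hr, hk, e⟩ := h.lin hn (Γ.mul_mem hn.mem hn.mem) (b := g1 * g3)
    (by rw [Perm.mul_apply, hc, n3])
  have n1 : ∀ a, n (a, 0, 0) = (0, 0, a * g1) := fun a => by
    obtain ⟨c, hc'⟩ := hn.sw a
    have e1 := congrArg (fun v => v.1) (e (a, 0, 0))
    have e2 := congrArg (fun v => v.1) (e (1, 0, 0))
    simp only [Perm.mul_apply, hc, hc', n3] at e1 e2
    simp [th] at e1 e2
    rw [hc', show c = a * g1 from mul_right_cancel₀ g30 (by rw [e1, ← e2]; ring)]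
  have nn : ∀ a b c, n (a, b, c) = (c * g3, b * g2, a * g1) := fun a b c => by
    rw [h.sw_split hn, n1, n2, n3]; simp
  obtain ⟨Y, hY, hY'⟩ := h.hb 1 1 one_ne_zero
  have e1 : (n * Y * n) (1, 0, 0) = (g1 * g3, g1 * g2, g1 * g1) := by
    rw [Perm.mul_apply, Perm.mul_apply, nn, hY']; simp [bor, nn]
  have rel : g1 * g3 = g2 ^ 2 := by
    rcases h.orbit hn (Γ.mul_mem (Γ.mul_mem hn.mem hY) hn.mem) 1 with ⟨b, hb⟩ | ⟨u, c, hb⟩
    · rw [e1] at hb
      simp [g10] at hb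
    · rw [e1] at hb
      simp only [Prod.mk.injEq] at hb
      obtain ⟨k1, k2, k3⟩ := hb
      rw [← k3] at k1 k2
      have : g2 = u * g1 := mul_left_cancel₀ g10 (by linear_combination k2)
      rw [k1, this]; ring
  obtain ⟨X, hX, hX'⟩ := h.hb (-g2 / g1) 1 one_ne_zero
  obtain ⟨r', s', k', hr', -, e'⟩ := h.lin hn
    (Γ.mul_mem (Γ.mul_mem hn.mem hX) (Γ.mul_mem (Γ.mul_mem hn.mem hY) hn.mem))
    (b := g1 * g1 * g3) (by
      rw [Perm.mul_apply, e1, Perm.mul_apply, hX']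
      have : bor (-g2 / g1) 1 (g1 * g3, g1 * g2, g1 * g1) = (0, 0, g1 * g1) := by
        ext
        · simp [bor]; field_simp; linear_combination rel
        · simp [bor]; field_simp; ring
        · simp [bor]
      rw [this, nn]; simp)
  have e2 := congrArg (fun v => v.1) (e' (1, 0, 0))
  rw [Perm.mul_apply, e1, Perm.mul_apply, hX'] at e2
  have : bor (-g2 / g1) 1 (g1 * g3, g1 * g2, g1 * g1) = (0, 0, g1 * g1) := by
    ext
    · simp [bor]; field_simp; linear_combination rel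
    · simp [bor]; field_simp; ring
    · simp [bor]
  rw [this, nn] at e2
  simp [th] at e2
  refine ⟨r' / g1, g2 * g1 / r', div_ne_zero hr' g10, div_ne_zero (mul_ne_zero g0 g10) hr',
    fun ⟨a, b, c⟩ => ?_⟩
  rw [nn]
  ext
  · simp [th]; field_simp; linear_combination c * e2
  · simp [th]; field_simp
  · simp [th]; field_simp; linear_combination (-a) * e2 + (a * g1) * rel

theorem upper [Finite F] {r s l : F} (hr : r ≠ 0) (hl : l ≠ 0) :
    ∃ γ ∈ Γ, ∀ v, γ v = th !![r, s; 0, l] v := by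
  obtain ⟨D, hD, hD'⟩ := h.diag hn hr
  obtain ⟨B, hB, hB'⟩ := h.hb (s / r) l hl
  refine ⟨D * B, Γ.mul_mem hD hB, fun v => ?_⟩
  rw [Perm.mul_apply, hD', hB', ← th_bor, ← th_mul]
  congr 1
  simp
  field_simp

theorem th_mem [Finite F] {g : Matrix (Fin 2) (Fin 2) F} (hg : g.det ≠ 0) :
    ∃ γ ∈ Γ, ∀ v, γ v = th g v := by
  rw [det_fin_two] at hg
  by_cases hc : g 1 0 = 0
  · rw [hc, mul_zero, sub_zero] at hg
    obtain ⟨γ, hγ, e⟩ := h.upper hn (s := g 0 1) (left_ne_zero_of_mul hg) (right_ne_zero_of_mul hg)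
    exact ⟨γ, hγ, fun v => by rw [e, ← hc, ← eta_fin_two]⟩
  obtain ⟨β, δ, hβ, hδ, e⟩ := h.sw_lin hn
  obtain ⟨Y, hY, hY'⟩ := h.hb (g 0 0 / g 1 0) 1 one_ne_zero
  obtain ⟨U, hU, hU'⟩ := h.upper hn (r := g 1 0 / δ) (s := g 1 1 / δ)
    (l := -(g 0 0 * g 1 1 - g 0 1 * g 1 0) / (g 1 0 * β)) (div_ne_zero hc hδ)
    (div_ne_zero (neg_ne_zero.2 hg) (mul_ne_zero hc hβ))
  refine ⟨Y * n * U, Γ.mul_mem (Γ.mul_mem hY hn.mem) hU, fun v => ?_⟩
  rw [Perm.mul_apply, Perm.mul_apply, hU', e, hY', ← th_bor, ← th_mul, ← th_mul]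
  congr 1
  ext i j
  fin_cases i <;> fin_cases j <;> simp <;> field_simp <;> ring

theorem mem_th [Finite F] {γ : Perm (F × F × F)} (hγ : γ ∈ Γ) :
    ∃ g : Matrix (Fin 2) (Fin 2) F, g.det ≠ 0 ∧ ∀ v, γ v = th g v := by
  rcases h.orbit hn hγ 1 with ⟨b, hb⟩ | ⟨u, c, hb⟩
  · obtain ⟨r, s, l, hr, hl, e⟩ := h.lin hn hγ hb
    exact ⟨_, by simp [hr, hl], e⟩
  · obtain ⟨β, δ, hβ, hδ, e⟩ := h.sw_lin hn
    obtain ⟨Y, hY, hY'⟩ := h.hb (-u) 1 one_ne_zero
    obtain ⟨r, s, l, hr, hl, e'⟩ := h.lin hn (Γ.mul_mem (Γ.mul_mem hn.mem hY) hγ) (b := β ^ 2 * c)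
      (by rw [Perm.mul_apply, Perm.mul_apply, hb, hY', e]; simp [bor, th]; exact Or.inr (by ring))
    refine ⟨!![1, u; 0, 1] * !![0, δ⁻¹; β⁻¹, 0] * !![r, r * s; 0, l], by
      rw [det_mul, det_mul]; simp [hr, hl, hβ, hδ], fun v => ?_⟩
    rw [th_mul, ← e', Perm.mul_apply, Perm.mul_apply, hY', e, ← th_bor, ← th_mul, ← th_mul]
    rw [← th_one (γ v)]
    congr 1
    · ext i j
      fin_cases i <;> fin_cases j <;> simp [hβ, hδ]
    · rw [th_one]

theorem eq_range [Finite F] : Γ = (theta (F := F)).range := by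
  ext γ
  constructor
  · intro hγ
    obtain ⟨g, hg, e⟩ := h.mem_th hn hγ
    exact ⟨GeneralLinearGroup.mkOfDetNeZero g hg, Perm.ext fun v => (e v).symm⟩
  · rintro ⟨g, rfl⟩
    obtain ⟨γ, hγ, e⟩ := h.th_mem hn (g := g.1) g.det_ne_zero
    rwa [show theta g = γ from Perm.ext fun v => (e v).symm]

end Gam

/-- Shearing the first coordinate. -/
def shear (f : F →+ F) : Perm (F × F × F) where
  toFun v := (v.1 + f v.2.2, v.2.1, v.2.2)
  invFun v := (v.1 - f v.2.2, v.2.1, v.2.2)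
  left_inv v := by simp
  right_inv v := by simp

theorem Gam.exists_equiv [Finite F] {Γ : Subgroup (Perm (F × F × F))} (h : Gam Γ)
    (hn : ∃ γ ∈ Γ, ∃ a, ∀ b, γ (a, 0, 0) ≠ (b, 0, 0)) :
    Nonempty (Γ ≃* (theta (F := F)).range) := by
  obtain ⟨n, hn, f, hT, hf, hl⟩ := h.exists_swap hn
  let κ := shear f
  have κ1 : ∀ v, κ v = (v.1 + f v.2.2, v.2.1, v.2.2) := fun _ => rfl
  have κ2 : ∀ v, κ⁻¹ v = (v.1 - f v.2.2, v.2.1, v.2.2) := fun _ => rfl
  have κb : ∀ s l v, l ≠ 0 → κ (bor s l v) = bor s l (κ v) := fun s l v hl0 => by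
    simp [κ1, bor, hl _ _ hl0]; ring
  have κi : ∀ v, κ⁻¹ (κ v) = v := fun v => by simp
  have κa : ∀ v w, κ (v + w) = κ v + κ w := fun v w => by
    simp only [κ1, Prod.fst_add, Prod.snd_add, map_add, Prod.mk_add_mk]
    congr 1; ring
  have κz : ∀ a, κ (a, 0, 0) = (a, 0, 0) := fun a => by simp [κ1]
  let Γ' := Γ.map (MulAut.conj κ⁻¹).toMonoidHom
  have mem : ∀ γ, γ ∈ Γ' ↔ κ * γ * κ⁻¹ ∈ Γ := fun γ => by
    constructor
    · rintro ⟨δ, hδ, rfl⟩
      simpa [mul_assoc] using hδ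
    · intro hγ
      exact ⟨_, hγ, by simp [mul_assoc]⟩
  have h' : Gam Γ' := by
    refine ⟨h.nsq, fun γ hγ v w => ?_, fun s l hl0 => ?_, fun γ hγ a ha e => ?_, ?_⟩
    · have := h.add _ ((mem γ).1 hγ) (κ v) (κ w)
      rw [← κa] at this
      simp only [Perm.mul_apply, κi] at this
      apply κ.injective
      rw [this, κa]
    · obtain ⟨γ, hγ, e⟩ := h.hb s l hl0
      refine ⟨κ⁻¹ * γ * κ, (mem _).2 (by simpa [mul_assoc] using hγ), fun v => ?_⟩
      rw [Perm.mul_apply, Perm.mul_apply, e, ← κb _ _ _ hl0, κi]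
    · obtain ⟨s, l, hl0, e'⟩ := h.st _ ((mem γ).1 hγ) a ha (by
        rw [Perm.mul_apply, Perm.mul_apply, ← κz, κi, e])
      refine ⟨s, l, hl0, fun v => κ.injective ?_⟩
      rw [κb _ _ _ hl0, ← e']; simp
    · obtain ⟨a, b, ha, hb, hc⟩ := h.hc
      refine ⟨a, b, ha, hb, fun γ hγ e => hc _ ((mem γ).1 hγ) ?_⟩
      rw [Perm.mul_apply, Perm.mul_apply, ← κz a, κi, e, κz]
  have hs : Sw Γ' (κ⁻¹ * n * κ) := by
    refine ⟨(mem _).2 (by simpa [mul_assoc] using hn), fun v => ?_, fun a => ?_⟩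
    · rw [Perm.mul_apply, Perm.mul_apply, κb _ _ _ (by simp), hT, Perm.inv_eq_iff_eq,
        κb _ _ _ (by simp)]
      simp
    · obtain ⟨c, hc⟩ := hf a
      exact ⟨c, by rw [Perm.mul_apply, Perm.mul_apply, κz, hc, κ2]; simp⟩
  exact ⟨(Γ.equivMapOfInjective _ (MulAut.conj κ⁻¹).injective).trans
    (MulEquiv.subgroupCongr (h'.eq_range hs))⟩

theorem theta_range_equiv [Fintype F] (h : ¬ IsSquare (-1 : F)) :
    Nonempty ((theta (F := F)).range ≃*
      PGL(2, F) × Multiplicative (ZMod ((Fintype.card F - 1) / 2))) := by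
  classical
  have h2 := two_ne_of_nsq h
  let S := (powMonoidHom 2 : Fˣ →* Fˣ).range
  have hS : Nat.card S = (Fintype.card F - 1) / 2 := by
    rw [IsCyclic.card_powMonoidHom_range, Nat.card_units, Nat.card_eq_fintype_card]
    have := FiniteField.isSquare_neg_one_iff.not.1 h
    push Not at this
    rw [Nat.gcd_eq_right (by omega)]
  let ψ : GL (Fin 2) F →* PGL(2, F) × S := ProjGenLinGroup.mk.prod
    ((powMonoidHom 2 : Fˣ →* Fˣ).rangeRestrict.comp GeneralLinearGroup.det)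
  have hψ : Function.Surjective ψ := by
    rintro ⟨x, _, d, rfl⟩
    obtain ⟨g, rfl⟩ := ProjGenLinGroup.mk_surjective x
    obtain ⟨r, hr⟩ : ∃ r : F, ((d / GeneralLinearGroup.det g : Fˣ) : F) ^ 2 = (r ^ 2) ^ 2 := by
      rcases sq_or_neg h ((d / GeneralLinearGroup.det g : Fˣ) : F) with ⟨r, hr⟩ | ⟨r, hr⟩
      · exact ⟨r, by rw [hr]⟩
      · exact ⟨r, by rw [hr]; ring⟩
    have r0 : r ≠ 0 := by
      rintro rfl
      exact pow_ne_zero 2 (Units.ne_zero _) (hr.trans (by ring))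
    refine ⟨g * GeneralLinearGroup.scalar _ (Units.mk0 r r0), Prod.ext ?_ (Subtype.ext ?_)⟩
    · simp [ψ]
    · apply Units.ext
      simp [ψ] at hr ⊢
      have := g.det_ne_zero
      field_simp at hr
      linear_combination -hr
  have hk : (theta (F := F)).ker = ψ.ker := by
    ext g
    simp only [MonoidHom.mem_ker]
    constructor
    · intro e
      have e1 := congrArg (fun x : Perm (F × F × F) => x (1, 0, 0)) e
      have e2 := congrArg (fun x : Perm (F × F × F) => x (0, 1, 0)) e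
      have e3 := congrArg (fun x : Perm (F × F × F) => x (0, 0, 1)) e
      simp [theta_apply, th] at e1 e2 e3
      obtain ⟨a1, -, a2⟩ := e1
      obtain ⟨a3, -, a4⟩ := e3
      have a5 := e2.2.1
      rw [a2, mul_zero, add_zero] at a5
      have a6 : g.1 1 1 = g.1 0 0 := by
        rcases a1 with a1 | a1 <;> rw [a1] at a5 ⊢
        · linear_combination a5
        · linear_combination -a5
      refine Prod.ext ?_ (Subtype.ext (Units.ext ?_))
      · show ProjGenLinGroup.mk g = 1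
        rw [ProjGenLinGroup.mk_eq_one, GeneralLinearGroup.mem_center_iff_val_mem_range_scalar]
        refine ⟨g.1 0 0, ?_⟩
        ext i j
        fin_cases i <;> fin_cases j <;> simp [a2, a3, a6]
      · simp [ψ, det_fin_two, a5, a2]
    · intro e
      have e1 : ProjGenLinGroup.mk g = 1 := congrArg Prod.fst e
      have e2 := congrArg (fun x : PGL(2, F) × S => ((x.2 : Fˣ) : F)) e
      rw [ProjGenLinGroup.mk_eq_one, GeneralLinearGroup.mem_center_iff_val_mem_range_scalar] at e1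
      obtain ⟨a, ha⟩ := e1
      simp only [ψ, MonoidHom.prod_apply, MonoidHom.comp_apply, MonoidHom.coe_rangeRestrict,
        powMonoidHom_apply, Units.val_pow_eq_pow_val, GeneralLinearGroup.val_det_apply, ← ha] at e2
      simp at e2
      have a2 : a ^ 2 = 1 := by
        rcases e2 with e2 | e2
        · exact by rcases e2 with e2 | e2 <;> rw [e2] <;> ring
        · exact absurd ⟨a, by linear_combination -e2⟩ h
      refine Perm.ext fun v => ?_
      rw [theta_apply, ← ha]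
      ext <;> simp [th, a2, ← sq]
  obtain ⟨e⟩ : Nonempty (S ≃* Multiplicative (ZMod ((Fintype.card F - 1) / 2))) :=
    ⟨hS ▸ (zmodCyclicMulEquiv (G := S) inferInstance).symm⟩
  exact ⟨((QuotientGroup.quotientKerEquivRange _).symm.trans
    ((QuotientGroup.quotientMulEquivOfEq hk).trans
      (QuotientGroup.quotientKerEquivOfSurjective ψ hψ))).trans ((MulEquiv.refl _).prodCongr e)⟩

end H62.Hay
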