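import Mathlib
import Cfsg.Agent.Lib.Hay.Basic
import Cfsg.Agent.Lib.Hay.Lin2
import Cfsg.Agent.S0051

/-! The normaliser of the large abelian subgroup when it is not `p`-closed. -/

set_option autoImplicit false

namespace H62.Hay

open Subgroup Cm Equiv
open scoped MatrixGroups

variable {F : Type*} [Field F]

variable (F) in
/-- A complement to the large abelian subgroup in the Sylow subgroup. -/
def Cm.Ys : Subgroup (Cm F) where
  carrier := Set.range cy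
  one_mem' := ⟨0, cy_zero⟩
  mul_mem' := by
    rintro _ _ ⟨u, rfl⟩ ⟨v, rfl⟩
    exact ⟨_, (cy_mul u v).symm⟩
  inv_mem' := by
    rintro _ ⟨u, rfl⟩
    exact ⟨_, (cy_inv u).symm⟩

namespace Hy

variable {G : Type*} [Group G] {φ : Cm F →* G} (h : Hy φ)
include h

theorem P_le_N : Pg φ ≤ Ng φ := by
  rintro _ ⟨k, hk, rfl⟩
  exact h.mem_NM.2 (Ps_le_Bs hk)

omit h in
theorem M_le_P : Mg φ ≤ Pg φ := map_mono Ms_le_Ps

theorem moved [Finite F] [Finite G] {p : ℕ} [Fact p.Prime] [CharP F p]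
    (hn : ¬ Ng φ ≤ normalizer (Pg φ : Set G)) :
    ∃ γ ∈ h.rho.range, ∃ a, ∀ b, γ (a, 0, 0) ≠ (b, 0, 0) := by
  by_contra hc
  push Not at hc
  refine hn fun n hn => ?_
  obtain ⟨b, hb⟩ := hc _ ⟨⟨n⁻¹, inv_mem hn⟩, rfl⟩ 1
  have e : n⁻¹ * φ (cz 1) * n⁻¹⁻¹ = φ (cz b) := h.rho_eq.1 hb
  exact h.norm_P (p := p) hn one_ne_zero (b := b) (by rw [← e]; group)

theorem complement [Finite F] [Finite G] {p : ℕ} [Fact p.Prime] [CharP F p] (h2 : (2 : F) ≠ 0) :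
    ∃ J : Subgroup G, J ≤ Ng φ ∧ Mg φ ⊔ J = Ng φ ∧ Mg φ ⊓ J = ⊥ ∧
      Nonempty (J ≃* h.rho.range) := by
  obtain ⟨P, hP⟩ := h.sylow (p := p) h2
  have hPN : (P : Subgroup G) ≤ Ng φ := hP ▸ h.P_le_N
  have hMN : Mg φ ≤ Ng φ := M_le_P.trans h.P_le_N
  have : ((Mg φ).subgroupOf (Ng φ)).Normal := normal_in_normalizer
  have : IsMulCommutative ((Mg φ).subgroupOf (Ng φ)) :=
    ⟨⟨fun x y => Subtype.ext (Subtype.ext (M_comm _ x.2 _ y.2))⟩⟩
  obtain ⟨H, hH⟩ := Cfsg.Agent.S0051.result ((Mg φ).subgroupOf (Ng φ))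
    ((P : Subgroup G).subgroupOf (Ng φ)) (comap_mono (hP ▸ M_le_P)) (by
      obtain ⟨k, hk⟩ := IsPGroup.iff_card.1 ((pM (φ := φ) (p := p)).comap_subtype (K := Ng φ))
      rw [show Nat.card ((Mg φ).subgroupOf (Ng φ)) = p ^ k from hk]
      exact Nat.Coprime.pow_left k ((Nat.Prime.coprime_iff_not_dvd Fact.out).2
        (P.subtype hPN).not_dvd_index))
    (((Ys F).map φ).subgroupOf (Ng φ)) (by
      rintro x ⟨_, ⟨u, rfl⟩, e⟩
      rw [mem_subgroupOf, hP]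
      exact ⟨_, cy_mem u, e⟩) (by
      rw [eq_bot_iff]
      rintro x ⟨⟨_, ⟨u, rfl⟩, e⟩, hx⟩
      have : φ (cy u) ∈ Mg φ := e ▸ hx
      have h0 : -u = 0 := (h.mem_map.1 this).1
      rw [neg_eq_zero.1 h0, cy_zero, map_one] at e
      exact Subtype.ext e.symm) (by
      refine le_antisymm (sup_le (comap_mono (hP ▸ M_le_P)) ?_) fun x hx => ?_
      · rintro x ⟨_, ⟨u, rfl⟩, e⟩
        rw [mem_subgroupOf, hP]
        exact ⟨_, cy_mem u, e⟩
      · rw [mem_subgroupOf, hP] at hx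
        obtain ⟨k, hk, e⟩ := hx
        obtain ⟨u, a, b, c, rfl⟩ := mem_Ps'.1 hk
        have := mul_mem_sup (S := (Mg φ).subgroupOf (Ng φ))
          (T := ((Ys F).map φ).subgroupOf (Ng φ))
          (x := ⟨φ (cm a b c), hMN ⟨_, cm_mem .., rfl⟩⟩)
          (y := ⟨φ (cy u), h.P_le_N ⟨_, cy_mem u, rfl⟩⟩) ⟨_, cm_mem .., rfl⟩ ⟨_, ⟨u, rfl⟩, rfl⟩
        convert this
        exact Subtype.ext (by rw [← e, map_mul]; rfl))
  refine ⟨H.map (Ng φ).subtype, map_subtype_le _, ?_, ?_, ⟨?_⟩⟩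
  · have := congrArg (map (Ng φ).subtype) hH.sup_eq_top
    rwa [Subgroup.map_sup, map_subgroupOf_eq_of_le hMN, ← MonoidHom.range_eq_map,
      range_subtype] at this
  · have := congrArg (map (Ng φ).subtype) hH.disjoint.eq_bot
    rwa [map_inf _ _ _ (subtype_injective _), map_subgroupOf_eq_of_le hMN, Subgroup.map_bot] at this
  · refine (H.equivMapOfInjective _ (subtype_injective _)).symm.trans
      (MulEquiv.ofBijective (h.rho.rangeRestrict.comp H.subtype) ⟨?_, ?_⟩)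
    · rw [injective_iff_map_eq_one]
      intro x hx
      have h1 : (x : Ng φ) ∈ h.rho.ker := congrArg Subtype.val hx
      rw [h.ker_rho h2] at h1
      exact Subtype.ext (disjoint_def.1 hH.disjoint h1 x.2)
    · rintro ⟨_, n, rfl⟩
      obtain ⟨⟨m, j⟩, rfl⟩ := hH.2 n
      refine ⟨j, Subtype.ext ?_⟩
      have h1 : (m : Ng φ) ∈ h.rho.ker := by rw [h.ker_rho h2]; exact m.2
      show h.rho j = h.rho (m * j)
      rw [map_mul, h1, one_mul]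

theorem two_classes [Finite F] [Finite G] {p : ℕ} [Fact p.Prime] [CharP F p] (h2 : (2 : F) ≠ 0)
    {u v : G} (Pu Pv : Sylow p G) (hu1 : u ≠ 1) (hv1 : v ≠ 1)
    (hu : u ∈ (Pu : Subgroup G)) (hu' : ∀ y ∈ (Pu : Subgroup G), y * u = u * y)
    (hv : v ∈ (Pv : Subgroup G)) (hv' : ∀ y ∈ (Pv : Subgroup G), y * v = v * y)
    (hc : ∀ g : G, g * u * g⁻¹ ≠ v) :
    ∃ a b : F, a ≠ 0 ∧ b ≠ 0 ∧ ∀ g : G, g * φ (cz a) * g⁻¹ ≠ φ (cz b) := by
  obtain ⟨g1, a, ha, e1⟩ := h.central_P h2 Pu hu hu1 hu'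
  obtain ⟨g2, b, hb, e2⟩ := h.central_P h2 Pv hv hv1 hv'
  refine ⟨a, b, ha, hb, fun g e => hc (g2⁻¹ * g * g1) ?_⟩
  rw [← e1, ← e2] at e
  calc _ = g2⁻¹ * (g * (g1 * u * g1⁻¹) * g⁻¹) * g2 := by group
    _ = v := by rw [e]; group

theorem adapt [Finite F] [Finite G] {p : ℕ} [Fact p.Prime] [CharP F p] (h2 : (2 : F) ≠ 0)
    (P : Sylow p G) : ∃ g : G, (P : Subgroup G) = Pg ((MulAut.conj g).toMonoidHom.comp φ) := by
  obtain ⟨Q, hQ⟩ := h.sylow (p := p) h2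
  obtain ⟨g, rfl⟩ := MulAction.exists_smul_eq G Q P
  exact ⟨g, by rw [cj_sylow, hQ, Pg, Pg, cj, map_map]⟩

end Hy

end H62.Hay
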